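import Mathlib

/-!
# Shift segments

A segment on a space `U` with endomorphism `T` is a shift with one input and one output.  It is good
when neither the shift nor `T` after the shift keeps a nonzero subspace.
-/

set_option linter.unusedSectionVars false

namespace Cfsg.Agent.OreSL

open Module

variable {K : Type*} [Field K]
variable {U : Type*} [AddCommGroup U] [Module K U] {U' : Type*} [AddCommGroup U'] [Module K U']

/-- Zero extension of a tuple. -/
def ext {s : ℕ} (k : ℕ) : (Fin s → K) →ₗ[K] K :=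
  if h : k < s then LinearMap.proj ⟨k, h⟩ else 0

theorem ext_of_lt {s k : ℕ} (u : Fin s → K) (h : k < s) : ext k u = u ⟨k, h⟩ := by
  simp [ext, h]

theorem ext_fin {s : ℕ} (u : Fin s → K) (j : Fin s) : ext (j : ℕ) u = u j := ext_of_lt u j.isLt

/-- The companion endomorphism with last column `c`. -/
def comp {s : ℕ} (c : Fin s → K) : Module.End K (Fin s → K) :=
  LinearMap.pi fun j => (if (j : ℕ) = 0 then 0 else ext ((j : ℕ) - 1)) + c j • ext (s - 1)

theorem comp_apply {s : ℕ} (c : Fin s → K) (u : Fin s → K) (j : Fin s) :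
    comp c u j = (if (j : ℕ) = 0 then 0 else ext ((j : ℕ) - 1) u) + c j * ext (s - 1) u := by
  unfold comp
  split_ifs with h <;> simp [LinearMap.pi_apply, h]

/-- No nonzero subspace inside `ker p` is mapped onto itself. -/
def Collapse (A : Module.End K U) (p : Dual K U) : Prop :=
  ∀ Z : Submodule K U, (∀ z ∈ Z, p z = 0) → (∀ z ∈ Z, A z ∈ Z) → (∀ z ∈ Z, ∃ y ∈ Z, A y = z) →
    Z = ⊥

theorem Collapse.mono {A : Module.End K U} (h : Collapse A 0) (p : Dual K U) : Collapse A p :=
  fun Z _ h2 h3 => h Z (fun _ _ => rfl) h2 h3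

/-- A shift with an input and an output. -/
structure Seg (K U : Type*) [Field K] [AddCommGroup U] [Module K U] where
  next : K × U →ₗ[K] U
  out : K × U →ₗ[K] K
  inj : ∀ z, next z = 0 → out z = 0 → z = 0

namespace Seg

/-- The shift with zero input. -/
def N (S : Seg K U) : Module.End K U := S.next ∘ₗ LinearMap.inr K K U

/-- The output with zero input. -/
def o (S : Seg K U) : Dual K U := S.out ∘ₗ LinearMap.inr K K U

theorem N_apply (S : Seg K U) (u : U) : S.N u = S.next (0, u) := rfl

theorem o_apply (S : Seg K U) (u : U) : S.o u = S.out (0, u) := rfl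

end Seg

/-- A segment through which zeros propagate. -/
def GoodSeg (T : Module.End K U) : Prop :=
  ∃ S : Seg K U, Collapse S.N 0 ∧ Collapse (T ∘ₗ S.N) 0

/-- A segment which may stand last. -/
def GoodEnd (T : Module.End K U) : Prop :=
  ∃ S : Seg K U, Collapse S.N S.o ∧ Collapse (T ∘ₗ S.N) S.o

theorem GoodSeg.goodEnd {T : Module.End K U} : GoodSeg T → GoodEnd T :=
  fun ⟨S, h1, h2⟩ => ⟨S, h1.mono _, h2.mono _⟩

/-- The empty segment. -/
theorem goodSeg_zero [Subsingleton U] (T : Module.End K U) : GoodSeg T :=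
  ⟨⟨0, LinearMap.fst K K U, fun _ _ h => Prod.ext h (Subsingleton.elim _ _)⟩,
    fun _ _ _ _ => (Submodule.eq_bot_iff _).2 fun _ _ => Subsingleton.elim _ _,
    fun _ _ _ _ => (Submodule.eq_bot_iff _).2 fun _ _ => Subsingleton.elim _ _⟩

theorem Collapse.of_equiv (e : U ≃ₗ[K] U') {A : Module.End K U} {A' : Module.End K U'}
    {p : Dual K U} {p' : Dual K U'} (hA : ∀ u, e (A u) = A' (e u)) (hp : ∀ u, p' (e u) = p u)
    (h : Collapse A p) : Collapse A' p' := by
  intro Z h1 h2 h3
  have hZ : Z.comap (e : U →ₗ[K] U') = ⊥ := h _ (fun z hz => by rw [← hp]; exact h1 _ hz)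
    (fun z hz => by
      show e (A z) ∈ Z
      rw [hA]; exact h2 _ hz)
    (fun z hz => by
      obtain ⟨y, hy, hyz⟩ := h3 _ hz
      refine ⟨e.symm y, by simpa using hy, e.injective ?_⟩
      rw [hA, e.apply_symm_apply]; exact hyz)
  refine (Submodule.eq_bot_iff _).2 fun z hz => ?_
  have : e.symm z ∈ Z.comap (e : U →ₗ[K] U') := by simpa using hz
  rw [hZ, Submodule.mem_bot, LinearEquiv.map_eq_zero_iff] at this
  exact this

/-- Transport of a segment. -/
def Seg.map (S : Seg K U) (e : U ≃ₗ[K] U') : Seg K U' where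
  next := (e : U →ₗ[K] U') ∘ₗ S.next ∘ₗ LinearMap.id.prodMap (e.symm : U' →ₗ[K] U)
  out := S.out ∘ₗ LinearMap.id.prodMap (e.symm : U' →ₗ[K] U)
  inj z h1 h2 := by
    have h := S.inj (z.1, e.symm z.2) (e.injective (by simpa using h1)) h2
    exact Prod.ext (congrArg Prod.fst h :) (e.symm.injective (by simpa using congrArg Prod.snd h))

theorem GoodSeg.of_equiv (e : U ≃ₗ[K] U') {T : Module.End K U} {T' : Module.End K U'}
    (hT : ∀ u, e (T u) = T' (e u)) : GoodSeg T → GoodSeg T' :=
  fun ⟨S, h1, h2⟩ => ⟨S.map e, h1.of_equiv e (fun u => by simp [Seg.N, Seg.map]) (fun _ => rfl),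
    h2.of_equiv e (fun u => by simp [Seg.N, Seg.map, hT]) (fun _ => rfl)⟩

theorem GoodEnd.of_equiv (e : U ≃ₗ[K] U') {T : Module.End K U} {T' : Module.End K U'}
    (hT : ∀ u, e (T u) = T' (e u)) : GoodEnd T → GoodEnd T' :=
  fun ⟨S, h1, h2⟩ => ⟨S.map e,
    h1.of_equiv e (fun u => by simp [Seg.N, Seg.map]) (fun u => by simp [Seg.o, Seg.map]),
    h2.of_equiv e (fun u => by simp [Seg.N, Seg.map, hT]) (fun u => by simp [Seg.o, Seg.map])⟩

/-- The first segment feeds the second. -/
def Seg.append (S : Seg K U) (R : Seg K U') : Seg K (U × U') where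
  next := LinearMap.prod (S.next ∘ₗ LinearMap.id.prodMap (LinearMap.fst K U U'))
    (R.next ∘ₗ LinearMap.prod (S.out ∘ₗ LinearMap.id.prodMap (LinearMap.fst K U U'))
      (LinearMap.snd K U U' ∘ₗ LinearMap.snd K K (U × U')))
  out := R.out ∘ₗ LinearMap.prod (S.out ∘ₗ LinearMap.id.prodMap (LinearMap.fst K U U'))
      (LinearMap.snd K U U' ∘ₗ LinearMap.snd K K (U × U'))
  inj z h1 h2 := by
    obtain ⟨a, u, v⟩ := z
    have hR := R.inj (S.out (a, u), v) (congrArg Prod.snd h1 :) h2
    have hS := S.inj (a, u) (congrArg Prod.fst h1 :) (congrArg Prod.fst hR :)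
    rw [Prod.mk_eq_zero] at hR hS
    rw [hS.1, hS.2, hR.2]
    rfl

theorem Collapse.prod {A : Module.End K U} {A' : Module.End K U'} {g : U →ₗ[K] U'}
    {p : Dual K U'} {q : Dual K U} (h : Collapse A 0) (h' : Collapse A' p)
    (M : Module.End K (U × U')) (hM : ∀ z, M z = (A z.1, A' z.2 + g z.1))
    (P : Dual K (U × U')) (hP : ∀ z, P z = p z.2 + q z.1) : Collapse M P := by
  intro Z h1 h2 h3
  have hfst : Z.map (LinearMap.fst K U U') = ⊥ := h _ (fun _ _ => rfl)
    (by rintro _ ⟨z, hz, rfl⟩; exact ⟨M z, h2 z hz, by simp [hM]⟩)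
    (by
      rintro _ ⟨z, hz, rfl⟩
      obtain ⟨y, hy, rfl⟩ := h3 z hz
      exact ⟨_, ⟨y, hy, rfl⟩, by simp [hM]⟩)
  have h0 : ∀ z ∈ Z, z.1 = 0 := fun z hz => (Submodule.eq_bot_iff _).1 hfst _ ⟨z, hz, rfl⟩
  have hsnd : Z.map (LinearMap.snd K U U') = ⊥ := h' _
    (by rintro _ ⟨z, hz, rfl⟩; simpa [hP, h0 z hz] using h1 z hz)
    (by rintro _ ⟨z, hz, rfl⟩; exact ⟨M z, h2 z hz, by simp [hM, h0 z hz]⟩)
    (by
      rintro _ ⟨z, hz, rfl⟩
      obtain ⟨y, hy, rfl⟩ := h3 z hz
      exact ⟨_, ⟨y, hy, rfl⟩, by simp [hM, h0 y hy]⟩)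
  exact (Submodule.eq_bot_iff _).2 fun z hz =>
    Prod.ext (h0 z hz) ((Submodule.eq_bot_iff _).1 hsnd _ ⟨z, hz, rfl⟩)

theorem append_aux (S : Seg K U) (R : Seg K U') (T : Module.End K U) (T' : Module.End K U')
    (z : U × U') :
    (S.append R).N z = (S.N z.1, R.N z.2 + R.next (S.o z.1, 0)) ∧
      (T.prodMap T') ((S.append R).N z) =
        ((T ∘ₗ S.N) z.1, (T' ∘ₗ R.N) z.2 + T' (R.next (S.o z.1, 0))) ∧
      (S.append R).o z = R.o z.2 + R.out (S.o z.1, 0) := by
  have e : (S.o z.1, z.2) = ((0 : K), z.2) + (S.o z.1, (0 : U')) := by simp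
  have e1 : (S.append R).N z = (S.N z.1, R.next (S.o z.1, z.2)) := rfl
  have e2 : (S.append R).o z = R.out (S.o z.1, z.2) := rfl
  refine ⟨?_, ?_, ?_⟩
  · rw [e1, e, map_add, Seg.N_apply R]
  · rw [e1, e, map_add]
    simp [Seg.N]
  · rw [e2, e, map_add, Seg.o_apply R]

theorem GoodSeg.prod {T : Module.End K U} {T' : Module.End K U'} :
    GoodSeg T → GoodSeg T' → GoodSeg (T.prodMap T') :=
  fun ⟨S, h1, h2⟩ ⟨R, h1', h2'⟩ => ⟨S.append R,
    h1.prod h1' (q := 0) (g := R.next ∘ₗ LinearMap.inl K K U' ∘ₗ S.o) _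
      (fun z => (append_aux S R T T' z).1) 0 (fun z => by simp),
    h2.prod h2' (q := 0) (g := T' ∘ₗ R.next ∘ₗ LinearMap.inl K K U' ∘ₗ S.o) _
      (fun z => (append_aux S R T T' z).2.1) 0 (fun z => by simp)⟩

theorem GoodSeg.prod_end {T : Module.End K U} {T' : Module.End K U'} :
    GoodSeg T → GoodEnd T' → GoodEnd (T.prodMap T') :=
  fun ⟨S, h1, h2⟩ ⟨R, h1', h2'⟩ => ⟨S.append R,
    h1.prod h1' (g := R.next ∘ₗ LinearMap.inl K K U' ∘ₗ S.o) _
      (fun z => (append_aux S R T T' z).1) _ (q := R.out ∘ₗ LinearMap.inl K K U' ∘ₗ S.o)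
      (fun z => (append_aux S R T T' z).2.2),
    h2.prod h2' (g := T' ∘ₗ R.next ∘ₗ LinearMap.inl K K U' ∘ₗ S.o) _
      (fun z => (append_aux S R T T' z).2.1) _ (q := R.out ∘ₗ LinearMap.inl K K U' ∘ₗ S.o)
      (fun z => (append_aux S R T T' z).2.2)⟩

/-- An odd companion block is a segment. -/
theorem goodSeg_odd {s : ℕ} (hs : Odd s) (c : Fin s → K) : GoodSeg (comp c) := by
  have hs2 : s % 2 = 1 := Nat.odd_iff.1 hs
  let nx : K × (Fin s → K) →ₗ[K] (Fin s → K) := LinearMap.pi fun j =>
    if (j : ℕ) = s - 1 then LinearMap.fst K K _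
    else (if (j : ℕ) = 0 then ext (s - 1) else ext ((j : ℕ) - 1)) ∘ₗ LinearMap.snd K K _
  let ot : K × (Fin s → K) →ₗ[K] K := ext (s - 2) ∘ₗ LinearMap.snd K K _
  have hnx : ∀ a u (j : Fin s), nx (a, u) j = if (j : ℕ) = s - 1 then a else
      if (j : ℕ) = 0 then ext (s - 1) u else ext ((j : ℕ) - 1) u := by
    intro a u j
    simp only [nx, LinearMap.pi_apply]
    split_ifs <;> simp
  refine ⟨⟨nx, ot, fun ⟨a, u⟩ h1 h2 => ?_⟩, ?_, ?_⟩
  · have h := fun j => (hnx a u j).symm.trans (congrFun h1 j)
    have ha : a = 0 := by simpa using h ⟨s - 1, by omega⟩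
    refine Prod.ext ha (funext fun k => ?_)
    show u k = 0
    rw [← ext_fin u k]
    rcases Nat.lt_or_ge ((k : ℕ) + 2) s with hk | hk
    · simpa [show (k : ℕ) + 1 ≠ s - 1 by omega] using h ⟨k + 1, by omega⟩
    · by_cases hk1 : (k : ℕ) = s - 2
      · rw [hk1]; exact h2
      · have e := h ⟨0, by omega⟩
        rw [if_neg (by simp only; omega), if_pos rfl] at e
        rwa [show (k : ℕ) = s - 1 by omega]
  · intro Z _ _ h3
    have key : ∀ j : ℕ, j < s → ∀ z ∈ Z, ext j z = (0 : K) := by
      have hlast : ∀ z ∈ Z, ext (s - 1) z = (0 : K) := fun z hz => by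
        obtain ⟨y, hy, rfl⟩ := h3 z hz
        rw [ext_of_lt _ (by omega), Seg.N_apply, hnx, if_pos rfl]
      intro j
      induction j with
      | zero =>
        intro hj z hz
        obtain ⟨y, hy, rfl⟩ := h3 z hz
        rw [ext_of_lt _ hj, Seg.N_apply, hnx]
        by_cases h : (0 : ℕ) = s - 1
        · rw [if_pos h]
        · rw [if_neg h, if_pos rfl]
          exact hlast y hy
      | succ j ih =>
        intro hj z hz
        obtain ⟨y, hy, rfl⟩ := h3 z hz
        rw [ext_of_lt _ hj, Seg.N_apply, hnx]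
        simp only [Nat.succ_ne_zero, if_false, Nat.add_sub_cancel]
        split_ifs
        · rfl
        · exact ih (by omega) y hy
    exact (Submodule.eq_bot_iff _).2 fun z hz => funext fun j => by
      rw [← ext_fin z j]; exact key j j.isLt z hz
  · intro Z _ _ h3
    have himg : ∀ (u : Fin s → K) (j : ℕ) (hj : j < s), comp c (nx (0, u)) ⟨j, hj⟩ =
        if j = 0 then 0 else if j = 1 then ext (s - 1) u else ext (j - 2) u := by
      intro u j hj
      have hlast : ext (s - 1) (nx (0, u)) = 0 := by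
        rw [ext_of_lt _ (by omega), hnx, if_pos rfl]
      rw [comp_apply, hlast, mul_zero, add_zero]
      by_cases h0 : j = 0
      · simp [h0]
      · simp only [h0, if_false]
        rw [ext_of_lt _ (by omega), hnx, if_neg (by simp only; omega)]
        by_cases h1 : j = 1
        · simp [h1]
        · rw [if_neg (by simp only; omega), if_neg h1]
          exact congrArg (fun i => ext i u) (by simp only; omega)
    have heven : ∀ j : ℕ, 2 * j < s → ∀ z ∈ Z, ext (2 * j) z = (0 : K) := by
      intro j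
      induction j with
      | zero =>
        intro hj z hz
        obtain ⟨y, hy, rfl⟩ := h3 z hz
        rw [ext_of_lt _ hj, LinearMap.comp_apply, Seg.N_apply, himg, if_pos rfl]
      | succ j ih =>
        intro hj z hz
        obtain ⟨y, hy, rfl⟩ := h3 z hz
        rw [ext_of_lt _ hj, LinearMap.comp_apply, Seg.N_apply, himg, if_neg (by omega),
          if_neg (by omega), show 2 * (j + 1) - 2 = 2 * j by omega]
        exact ih (by omega) y hy
    have hodd : ∀ j : ℕ, 2 * j + 1 < s → ∀ z ∈ Z, ext (2 * j + 1) z = (0 : K) := by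
      intro j
      induction j with
      | zero =>
        intro hj z hz
        obtain ⟨y, hy, rfl⟩ := h3 z hz
        rw [ext_of_lt _ hj, LinearMap.comp_apply, Seg.N_apply, himg, if_neg (by omega),
          if_pos (by omega), show s - 1 = 2 * (s / 2) by omega]
        exact heven _ (by omega) y hy
      | succ j ih =>
        intro hj z hz
        obtain ⟨y, hy, rfl⟩ := h3 z hz
        rw [ext_of_lt _ hj, LinearMap.comp_apply, Seg.N_apply, himg, if_neg (by omega),
          if_neg (by omega), show 2 * (j + 1) + 1 - 2 = 2 * j + 1 by omega]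
        exact ih (by omega) y hy
    refine (Submodule.eq_bot_iff _).2 fun z hz => funext fun k => ?_
    rw [← ext_fin z k]
    rcases Nat.even_or_odd' (k : ℕ) with ⟨i, hi | hi⟩
    · rw [hi]; exact heven i (by omega) z hz
    · rw [hi]; exact hodd i (by omega) z hz

/-- Two even companion blocks form a segment. -/
theorem goodSeg_pair {s t : ℕ} (hs : Even s) (ht : Even t) (hs0 : 2 ≤ s) (ht0 : 2 ≤ t)
    (c : Fin s → K) (d : Fin t → K) : GoodSeg ((comp c).prodMap (comp d)) := by
  have hs2 : s % 2 = 0 := Nat.even_iff.1 hs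
  have ht2 : t % 2 = 0 := Nat.even_iff.1 ht
  let X : Dual K (Fin s → K) → (K × ((Fin s → K) × (Fin t → K)) →ₗ[K] K) := fun f =>
    f ∘ₗ LinearMap.fst K _ _ ∘ₗ LinearMap.snd K K _
  let Y : Dual K (Fin t → K) → (K × ((Fin s → K) × (Fin t → K)) →ₗ[K] K) := fun f =>
    f ∘ₗ LinearMap.snd K _ _ ∘ₗ LinearMap.snd K K _
  let nx : K × ((Fin s → K) × (Fin t → K)) →ₗ[K] (Fin s → K) × (Fin t → K) :=
    LinearMap.prod
      (LinearMap.pi fun j : Fin s => if (j : ℕ) = s - 1 then LinearMap.fst K K _
        else if (j : ℕ) = 0 then Y (ext (t - 2)) else X (ext ((j : ℕ) - 1)))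
      (LinearMap.pi fun j : Fin t => if (j : ℕ) = t - 1 then X (ext (s - 2))
        else if (j : ℕ) = 0 then X (ext (s - 1)) else Y (ext ((j : ℕ) - 1)))
  have hx : ∀ a u v (j : Fin s), (nx (a, (u, v))).1 j = if (j : ℕ) = s - 1 then a else
      if (j : ℕ) = 0 then ext (t - 2) v else ext ((j : ℕ) - 1) u := by
    intro a u v j
    simp only [nx, X, Y, LinearMap.prod_apply, Function.prod, LinearMap.pi_apply]
    split_ifs <;> simp
  have hy : ∀ a u v (j : Fin t), (nx (a, (u, v))).2 j = if (j : ℕ) = t - 1 then ext (s - 2) u else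
      if (j : ℕ) = 0 then ext (s - 1) u else ext ((j : ℕ) - 1) v := by
    intro a u v j
    simp only [nx, X, Y, LinearMap.prod_apply, Function.prod, LinearMap.pi_apply]
    split_ifs <;> simp
  refine ⟨⟨nx, Y (ext (t - 1)), fun ⟨a, u, v⟩ h1 h2 => ?_⟩, ?_, ?_⟩
  · have ha := fun j => (hx a u v j).symm.trans (congrFun (congrArg Prod.fst h1) j)
    have hb := fun j => (hy a u v j).symm.trans (congrFun (congrArg Prod.snd h1) j)
    refine Prod.ext ?_ (Prod.ext (funext fun k => ?_) (funext fun k => ?_))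
    · simpa using ha ⟨s - 1, by omega⟩
    · show u k = 0
      rw [← ext_fin u k]
      rcases Nat.lt_or_ge ((k : ℕ) + 2) s with hk | hk
      · simpa [show (k : ℕ) + 1 ≠ s - 1 by omega] using ha ⟨k + 1, by omega⟩
      · by_cases hk1 : (k : ℕ) = s - 2
        · simpa [hk1] using hb ⟨t - 1, by omega⟩
        · rw [show (k : ℕ) = s - 1 by omega]
          simpa [show (0 : ℕ) ≠ t - 1 by omega] using hb ⟨0, by omega⟩
    · show v k = 0
      rw [← ext_fin v k]
      rcases Nat.lt_or_ge ((k : ℕ) + 2) t with hk | hk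
      · simpa [show (k : ℕ) + 1 ≠ t - 1 by omega] using hb ⟨k + 1, by omega⟩
      · by_cases hk1 : (k : ℕ) = t - 2
        · rw [hk1]
          simpa [show (0 : ℕ) ≠ s - 1 by omega] using ha ⟨0, by omega⟩
        · rw [show (k : ℕ) = t - 1 by omega]
          exact h2
  · intro Z _ _ h3
    have hl : ∀ z ∈ Z, ext (s - 1) z.1 = (0 : K) := fun z hz => by
      obtain ⟨⟨u, v⟩, hw, rfl⟩ := h3 z hz
      rw [ext_of_lt _ (by omega), Seg.N_apply, hx, if_pos rfl]
    have hb : ∀ j : ℕ, j + 2 ≤ t → ∀ z ∈ Z, ext j z.2 = (0 : K) := by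
      intro j
      induction j with
      | zero =>
        intro hj z hz
        obtain ⟨⟨u, v⟩, hw, rfl⟩ := h3 z hz
        rw [ext_of_lt _ (by omega), Seg.N_apply, hy, if_neg (by simp only; omega), if_pos rfl]
        exact hl _ hw
      | succ j ih =>
        intro hj z hz
        obtain ⟨⟨u, v⟩, hw, rfl⟩ := h3 z hz
        rw [ext_of_lt _ (by omega), Seg.N_apply, hy, if_neg (by simp only; omega),
          if_neg (by simp only; omega)]
        exact ih (by omega) _ hw
    have ha : ∀ j : ℕ, j < s → ∀ z ∈ Z, ext j z.1 = (0 : K) := by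
      intro j
      induction j with
      | zero =>
        intro hj z hz
        obtain ⟨⟨u, v⟩, hw, rfl⟩ := h3 z hz
        rw [ext_of_lt _ (by omega), Seg.N_apply, hx, if_neg (by simp only; omega), if_pos rfl]
        exact hb _ (by omega) _ hw
      | succ j ih =>
        intro hj z hz
        obtain ⟨⟨u, v⟩, hw, rfl⟩ := h3 z hz
        rw [ext_of_lt _ (by omega), Seg.N_apply, hx]
        by_cases h : j + 1 = s - 1
        · rw [if_pos h]
        · rw [if_neg h, if_neg (by simp only; omega)]
          exact ih (by omega) _ hw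
    refine (Submodule.eq_bot_iff _).2 fun z hz => Prod.ext (funext fun k => ?_) (funext fun k => ?_)
    · show z.1 k = 0
      rw [← ext_fin z.1 k]; exact ha k k.isLt z hz
    · show z.2 k = 0
      rw [← ext_fin z.2 k]
      rcases Nat.lt_or_ge ((k : ℕ) + 1) t with hk | hk
      · exact hb k (by omega) z hz
      · obtain ⟨⟨u, v⟩, hw, rfl⟩ := h3 z hz
        rw [ext_of_lt _ k.isLt, Seg.N_apply, hy, if_pos (by simp only; omega)]
        exact ha _ (by omega) _ hw
  · intro Z _ _ h3
    have ia : ∀ u v (j : ℕ) (hj : j < s), comp c (nx (0, (u, v))).1 ⟨j, hj⟩ =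
        if j = 0 then 0 else if j = 1 then ext (t - 2) v else ext (j - 2) u := by
      intro u v j hj
      rw [comp_apply, show ext (s - 1) (nx (0, (u, v))).1 = (0 : K) by
        rw [ext_of_lt _ (by omega), hx, if_pos rfl], mul_zero, add_zero]
      by_cases h0 : j = 0
      · simp [h0]
      · simp only [h0, if_false]
        rw [ext_of_lt _ (by omega), hx, if_neg (by simp only; omega)]
        by_cases h1 : j = 1
        · simp [h1]
        · rw [if_neg (by simp only; omega), if_neg h1]
          exact congrArg (fun i => ext i u) (by simp only; omega)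
    have hae : ∀ j : ℕ, 2 * j < s → ∀ z ∈ Z, ext (2 * j) z.1 = (0 : K) := by
      intro j
      induction j with
      | zero =>
        intro hj z hz
        obtain ⟨⟨u, v⟩, hw, rfl⟩ := h3 z hz
        simp only [LinearMap.comp_apply, LinearMap.prodMap_apply, Seg.N_apply]
        rw [ext_of_lt _ hj, ia, if_pos rfl]
      | succ j ih =>
        intro hj z hz
        obtain ⟨⟨u, v⟩, hw, rfl⟩ := h3 z hz
        simp only [LinearMap.comp_apply, LinearMap.prodMap_apply, Seg.N_apply]
        rw [ext_of_lt _ hj, ia, if_neg (by omega), if_neg (by omega),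
          show 2 * (j + 1) - 2 = 2 * j by omega]
        exact ih (by omega) _ hw
    have hkey : ∀ z ∈ Z, ext (s - 2) z.1 = (0 : K) := fun z hz => by
      rw [show s - 2 = 2 * (s / 2 - 1) by omega]
      exact hae _ (by omega) z hz
    have ib : ∀ u v, (u, v) ∈ Z → ∀ (j : ℕ) (hj : j < t), comp d (nx (0, (u, v))).2 ⟨j, hj⟩ =
        if j = 0 then 0 else if j = 1 then ext (s - 1) u else ext (j - 2) v := by
      intro u v hw j hj
      have h0' : ext (t - 1) (nx (0, (u, v))).2 = (0 : K) := by
        rw [ext_of_lt _ (by omega), hy, if_pos rfl]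
        exact hkey _ hw
      rw [comp_apply, h0', mul_zero, add_zero]
      by_cases h0 : j = 0
      · simp [h0]
      · simp only [h0, if_false]
        rw [ext_of_lt _ (by omega), hy, if_neg (by simp only; omega)]
        by_cases h1 : j = 1
        · simp [h1]
        · rw [if_neg (by simp only; omega), if_neg h1]
          exact congrArg (fun i => ext i v) (by simp only; omega)
    have hbe : ∀ j : ℕ, 2 * j < t → ∀ z ∈ Z, ext (2 * j) z.2 = (0 : K) := by
      intro j
      induction j with
      | zero =>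
        intro hj z hz
        obtain ⟨⟨u, v⟩, hw, rfl⟩ := h3 z hz
        simp only [LinearMap.comp_apply, LinearMap.prodMap_apply, Seg.N_apply]
        rw [ext_of_lt _ hj, ib u v hw, if_pos rfl]
      | succ j ih =>
        intro hj z hz
        obtain ⟨⟨u, v⟩, hw, rfl⟩ := h3 z hz
        simp only [LinearMap.comp_apply, LinearMap.prodMap_apply, Seg.N_apply]
        rw [ext_of_lt _ hj, ib u v hw, if_neg (by omega), if_neg (by omega),
          show 2 * (j + 1) - 2 = 2 * j by omega]
        exact ih (by omega) _ hw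
    have hao : ∀ j : ℕ, 2 * j + 1 < s → ∀ z ∈ Z, ext (2 * j + 1) z.1 = (0 : K) := by
      intro j
      induction j with
      | zero =>
        intro hj z hz
        obtain ⟨⟨u, v⟩, hw, rfl⟩ := h3 z hz
        simp only [LinearMap.comp_apply, LinearMap.prodMap_apply, Seg.N_apply]
        rw [ext_of_lt _ hj, ia, if_neg (by omega), if_pos (by omega),
          show t - 2 = 2 * (t / 2 - 1) by omega]
        exact hbe _ (by omega) _ hw
      | succ j ih =>
        intro hj z hz
        obtain ⟨⟨u, v⟩, hw, rfl⟩ := h3 z hz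
        simp only [LinearMap.comp_apply, LinearMap.prodMap_apply, Seg.N_apply]
        rw [ext_of_lt _ hj, ia, if_neg (by omega), if_neg (by omega),
          show 2 * (j + 1) + 1 - 2 = 2 * j + 1 by omega]
        exact ih (by omega) _ hw
    have hbo : ∀ j : ℕ, 2 * j + 1 < t → ∀ z ∈ Z, ext (2 * j + 1) z.2 = (0 : K) := by
      intro j
      induction j with
      | zero =>
        intro hj z hz
        obtain ⟨⟨u, v⟩, hw, rfl⟩ := h3 z hz
        simp only [LinearMap.comp_apply, LinearMap.prodMap_apply, Seg.N_apply]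
        rw [ext_of_lt _ hj, ib u v hw, if_neg (by omega), if_pos (by omega),
          show s - 1 = 2 * (s / 2 - 1) + 1 by omega]
        exact hao _ (by omega) _ hw
      | succ j ih =>
        intro hj z hz
        obtain ⟨⟨u, v⟩, hw, rfl⟩ := h3 z hz
        simp only [LinearMap.comp_apply, LinearMap.prodMap_apply, Seg.N_apply]
        rw [ext_of_lt _ hj, ib u v hw, if_neg (by omega), if_neg (by omega),
          show 2 * (j + 1) + 1 - 2 = 2 * j + 1 by omega]
        exact ih (by omega) _ hw
    refine (Submodule.eq_bot_iff _).2 fun z hz => Prod.ext (funext fun k => ?_) (funext fun k => ?_)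
    · show z.1 k = 0
      rw [← ext_fin z.1 k]
      rcases Nat.even_or_odd' (k : ℕ) with ⟨i, hi | hi⟩
      · rw [hi]; exact hae i (by omega) z hz
      · rw [hi]; exact hao i (by omega) z hz
    · show z.2 k = 0
      rw [← ext_fin z.2 k]
      rcases Nat.even_or_odd' (k : ℕ) with ⟨i, hi | hi⟩
      · rw [hi]; exact hbe i (by omega) z hz
      · rw [hi]; exact hbo i (by omega) z hz

/-- A single even companion block may stand last. -/
theorem goodEnd_even {s : ℕ} (hs : Even s) (hs0 : 2 ≤ s) (c : Fin s → K) : GoodEnd (comp c) := by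
  have hs2 : s % 2 = 0 := Nat.even_iff.1 hs
  let τ : Fin s → K := fun j => (if (j : ℕ) = 0 then 1 else 0) -
    (if h : (j : ℕ) + 1 < s then c ⟨j + 1, h⟩ else 0)
  let nx : K × (Fin s → K) →ₗ[K] (Fin s → K) := LinearMap.pi fun j =>
    if (j : ℕ) = s - 1 then ext (s - 2) ∘ₗ LinearMap.snd K K _
    else (if (j : ℕ) = 0 then LinearMap.fst K K _ else ext ((j : ℕ) - 1) ∘ₗ LinearMap.snd K K _)
      + τ j • (ext (s - 2) ∘ₗ LinearMap.snd K K _)
  have hnx : ∀ a u (j : Fin s), nx (a, u) j = if (j : ℕ) = s - 1 then ext (s - 2) u else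
      (if (j : ℕ) = 0 then a else ext ((j : ℕ) - 1) u) + τ j * ext (s - 2) u := by
    intro a u j
    simp only [nx, LinearMap.pi_apply]
    split_ifs <;> simp
  refine ⟨⟨nx, ext (s - 1) ∘ₗ LinearMap.snd K K _, fun ⟨a, u⟩ h1 h2 => ?_⟩, ?_, ?_⟩
  · have h := fun j => (hnx a u j).symm.trans (congrFun h1 j)
    have hl : ext (s - 2) u = 0 := by simpa using h ⟨s - 1, by omega⟩
    refine Prod.ext ?_ (funext fun k => ?_)
    · simpa [hl, show (0 : ℕ) ≠ s - 1 by omega] using h ⟨0, by omega⟩
    · show u k = 0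
      rw [← ext_fin u k]
      rcases Nat.lt_or_ge ((k : ℕ) + 2) s with hk | hk
      · simpa [hl, show (k : ℕ) + 1 ≠ s - 1 by omega] using h ⟨k + 1, by omega⟩
      · by_cases hk1 : (k : ℕ) = s - 2
        · rw [hk1]; exact hl
        · rw [show (k : ℕ) = s - 1 by omega]; exact h2
  · intro Z h1 h2 h3
    have hl : ∀ z ∈ Z, ext (s - 2) z = (0 : K) := fun z hz => by
      have h : ext (s - 1) (nx (0, z)) = (0 : K) := h1 _ (h2 z hz)
      rwa [ext_of_lt _ (by omega), hnx, if_pos rfl] at h
    have key : ∀ j : ℕ, j + 1 < s → ∀ z ∈ Z, ext j z = (0 : K) := by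
      intro j
      induction j with
      | zero =>
        intro hj z hz
        obtain ⟨y, hy, rfl⟩ := h3 z hz
        rw [ext_of_lt _ (by omega), Seg.N_apply, hnx, if_neg (by simp only; omega), if_pos rfl,
          hl y hy]
        simp
      | succ j ih =>
        intro hj z hz
        obtain ⟨y, hy, rfl⟩ := h3 z hz
        rw [ext_of_lt _ (by omega), Seg.N_apply, hnx, if_neg (by simp only; omega),
          if_neg (by simp only; omega), hl y hy]
        simpa using ih (by omega) y hy
    refine (Submodule.eq_bot_iff _).2 fun z hz => funext fun k => ?_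
    show z k = 0
    rw [← ext_fin z k]
    rcases Nat.lt_or_ge ((k : ℕ) + 1) s with hk | hk
    · exact key k hk z hz
    · rw [show (k : ℕ) = s - 1 by omega]; exact h1 z hz
  · intro Z h1 h2 h3
    have himg : ∀ (u : Fin s → K) (j : ℕ) (hj : j < s), comp c (nx (0, u)) ⟨j, hj⟩ =
        if j = 0 then c ⟨0, by omega⟩ * ext (s - 2) u else
          if j = 1 then ext (s - 2) u else ext (j - 2) u := by
      intro u j hj
      rw [comp_apply, show ext (s - 1) (nx (0, u)) = ext (s - 2) u by
        rw [ext_of_lt _ (by omega), hnx, if_pos rfl]]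
      by_cases h0 : j = 0
      · subst h0; simp
      · simp only [h0, if_false]
        rw [ext_of_lt _ (by omega), hnx, if_neg (by simp only; omega)]
        by_cases h1 : j = 1
        · subst h1
          simp only [τ, Nat.sub_self, if_true, zero_add]
          rw [dif_pos (by omega)]
          ring
        · rw [if_neg (by simp only; omega), if_neg h1]
          simp only [τ]
          rw [if_neg (by omega), dif_pos (by omega)]
          have e : (⟨j - 1 + 1, by omega⟩ : Fin s) = ⟨j, hj⟩ := Fin.ext (by simp only; omega)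
          rw [e, show j - 1 - 1 = j - 2 by omega]
          ring
    have hodd : ∀ k : ℕ, 2 * k + 1 < s → ∀ z ∈ Z, ext (s - 1 - 2 * k) z = (0 : K) := by
      intro k
      induction k with
      | zero => intro _ z hz; exact h1 z hz
      | succ k ih =>
        intro hk z hz
        have h : ext (s - 1 - 2 * k) (comp c (nx (0, z))) = (0 : K) := ih (by omega) _ (h2 z hz)
        rw [ext_of_lt _ (by omega), himg, if_neg (by omega), if_neg (by omega)] at h
        rwa [show s - 1 - 2 * (k + 1) = s - 1 - 2 * k - 2 by omega]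
    have hl : ∀ z ∈ Z, ext (s - 2) z = (0 : K) := fun z hz => by
      have h : ext 1 (comp c (nx (0, z))) = (0 : K) := by
        have := hodd (s / 2 - 1) (by omega) _ (h2 z hz)
        rwa [show s - 1 - 2 * (s / 2 - 1) = 1 by omega] at this
      rwa [ext_of_lt _ (by omega), himg, if_neg (by omega), if_pos rfl] at h
    have key : ∀ j : ℕ, j < s → ∀ z ∈ Z, ext j z = (0 : K) := by
      intro j
      induction j using Nat.strong_induction_on with
      | h j ih =>
        intro hj z hz
        obtain ⟨y, hy, rfl⟩ := h3 z hz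
        rw [ext_of_lt _ hj, LinearMap.comp_apply, Seg.N_apply, himg]
        split_ifs with h0 h1'
        · simp [hl y hy]
        · exact hl y hy
        · exact ih _ (by omega) (by omega) y hy
    exact (Submodule.eq_bot_iff _).2 fun z hz => funext fun k => by
      rw [← ext_fin z k]; exact key k k.isLt z hz

end Cfsg.Agent.OreSL
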