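import Cfsg.Agent.OreSL.Completion
import Cfsg.Agent.OreSL.Segments

/-!
# The commutator from a hyperplane and a shift
-/

namespace Cfsg.Agent.OreSL

open Polynomial Module

variable {K : Type*} [Field K]

/-- `T` is a commutator of determinant-one automorphisms. -/
def IsComm {V : Type*} [AddCommGroup V] [Module K V] (T : Module.End K V) : Prop :=
  ∃ a c : Module.End K V, LinearMap.det a = 1 ∧ LinearMap.det c = 1 ∧ T * c * a = a * c

theorem IsComm.of_equiv {V V' : Type*} [AddCommGroup V] [Module K V] [AddCommGroup V'] [Module K V']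
    (e : V ≃ₗ[K] V') {T : Module.End K V} {T' : Module.End K V'}
    (hT : ∀ v, e (T v) = T' (e v)) : IsComm T → IsComm T' := by
  rintro ⟨a, c, ha, hc, h⟩
  refine ⟨e.conj a, e.conj c, ?_, ?_, LinearMap.ext fun v => ?_⟩
  · rw [LinearEquiv.conj_apply, LinearMap.comp_assoc, LinearMap.det_conj, ha]
  · rw [LinearEquiv.conj_apply, LinearMap.comp_assoc, LinearMap.det_conj, hc]
  · have h1 : T (c (a (e.symm v))) = a (c (e.symm v)) :=
      congrArg (fun f : Module.End K V => f (e.symm v)) h
    simp only [Module.End.mul_apply, LinearEquiv.conj_apply, LinearMap.comp_apply,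
      LinearEquiv.coe_coe, LinearEquiv.symm_apply_apply, ← h1, hT]

variable {U : Type*} [AddCommGroup U] [Module K U] {W : Type*} [AddCommGroup W] [Module K W]

theorem Collapse.invFree [FiniteDimensional K W] {A : Module.End K W} {p : Dual K W}
    (h : Collapse A p) (hinj : ∀ z, p z = 0 → A z = 0 → z = 0) : InvFree A p :=
  InvFree.of_submodule fun Z h1 h2 => h Z h1 h2 fun z hz => by
    let f : Z →ₗ[K] Z := A.restrict h2
    have hf : Function.Injective f := by
      rw [← LinearMap.ker_eq_bot]
      refine (Submodule.eq_bot_iff _).2 fun x hx => Subtype.ext (hinj _ (h1 _ x.2) ?_)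
      exact congrArg Subtype.val (LinearMap.mem_ker.1 hx)
    obtain ⟨y, hy⟩ := (LinearMap.injective_iff_surjective.1 hf) ⟨z, hz⟩
    exact ⟨y, y.2, congrArg Subtype.val hy⟩

theorem aeval_prodMap (A : Module.End K U) (B : Module.End K W) (f : K[X]) :
    aeval (LinearMap.prodMap A B : Module.End K (U × W)) f =
      LinearMap.prodMap (aeval A f) (aeval B f) := by
  induction f using Polynomial.induction_on with
  | C a => ext x <;> simp [Module.algebraMap_end_apply]
  | add p q hp hq => simp only [map_add, hp, hq]; ext x <;> simp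
  | monomial k a h =>
    simp only [map_mul, map_pow, aeval_X, aeval_C] at h ⊢
    rw [pow_succ, ← mul_assoc, h]
    ext x <;> simp [pow_succ, Module.End.mul_apply]

/-- Coprime invariant-free endomorphisms add up. -/
theorem InvFree.prod {A : Module.End K U} {B : Module.End K W} {μ : Dual K U} {ν : Dual K W}
    (hA : InvFree A μ) (hB : InvFree B ν) {f g : K[X]} (hf : aeval A f = 0) (hg : aeval B g = 0)
    (hco : IsCoprime f g) :
    InvFree (LinearMap.prodMap A B) (μ ∘ₗ LinearMap.fst K U W + ν ∘ₗ LinearMap.snd K U W) := by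
  refine InvFree.of_submodule fun Z h1 h2 => ?_
  have hpoly : ∀ (p : K[X]) z, z ∈ Z → aeval (LinearMap.prodMap A B : Module.End K (U × W)) p z ∈ Z := by
    intro p
    induction p using Polynomial.induction_on with
    | C a => intro z hz; simpa [Module.algebraMap_end_apply] using Z.smul_mem a hz
    | add p q hp hq => intro z hz; simpa using add_mem (hp z hz) (hq z hz)
    | monomial k a h =>
      intro z hz
      simp only [map_mul, map_pow, aeval_X, aeval_C] at h ⊢
      rw [pow_succ, ← mul_assoc, Module.End.mul_apply]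
      exact h _ (h2 z hz)
  obtain ⟨a, b, hab⟩ := hco
  have hsplit : ∀ z ∈ Z, (z.1, (0 : W)) ∈ Z := fun z hz => by
    have e : aeval (LinearMap.prodMap A B : Module.End K (U × W)) (b * g) z = (z.1, 0) := by
      rw [aeval_prodMap]
      refine Prod.ext ?_ ?_
      · simp only [LinearMap.prodMap_apply]
        rw [show b * g = 1 - a * f by rw [← hab]; ring, map_sub, map_one, map_mul, hf, mul_zero,
          sub_zero, Module.End.one_apply]
      · simp only [LinearMap.prodMap_apply]
        rw [map_mul, hg, mul_zero, LinearMap.zero_apply]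
    exact e ▸ hpoly _ z hz
  have hl : Z.comap (LinearMap.inl K U W) = ⊥ := hA.submodule_eq_bot _
    (fun u hu => by simpa using h1 _ hu) fun u hu => by simpa using h2 _ hu
  have hr : Z.comap (LinearMap.inr K U W) = ⊥ := hB.submodule_eq_bot _
    (fun u hu => by simpa using h1 _ hu) fun u hu => by simpa using h2 _ hu
  refine (Submodule.eq_bot_iff _).2 fun z hz => ?_
  have hz1 : z.1 = 0 := (Submodule.eq_bot_iff _).1 hl _ (hsplit z hz)
  refine Prod.ext hz1 ((Submodule.eq_bot_iff _).1 hr _ ?_)
  show ((0 : U), z.2) ∈ Z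
  rw [← hz1]
  exact hz

theorem invFree_scalar (s : K) :
    InvFree (s • LinearMap.id : Module.End K K) (LinearMap.id : Dual K K) :=
  fun z hz => by simpa using hz 0

/-- A polynomial with prescribed constant coefficient not vanishing at a prescribed point. -/
theorem exists_poly {d : ℕ} (hd : 1 ≤ d) (h : 2 ≤ d ∨ ∃ s : K, s ≠ 0 ∧ s * s ≠ 1) :
    ∃ (g : K[X]) (s : K), g.Monic ∧ g.natDegree = d ∧ s ≠ 0 ∧ g.eval s ≠ 0 ∧
      (-1) ^ d * g.coeff 0 * s = 1 := by
  classical
  by_cases h2 : 2 ≤ d
  · let a : K := if 1 + (-1 : K) ^ d = 0 then 1 else 0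
    let q : K[X] := C a * X + C ((-1) ^ d)
    have hq : q.degree < (d : WithBot ℕ) := lt_of_le_of_lt (degree_linear_le) (by exact_mod_cast h2)
    refine ⟨X ^ d + q, 1, monic_X_pow_add hq, ?_, one_ne_zero, ?_, ?_⟩
    · exact natDegree_eq_of_degree_eq_some
        (by rw [degree_add_eq_left_of_degree_lt] <;> rw [degree_X_pow]; exact hq)
    · simp only [q, a, eval_add, eval_pow, eval_X, one_pow, eval_mul, eval_C, mul_one]
      split_ifs with h0
      · rw [show (1 : K) + (1 + (-1) ^ d) = 1 + (-1) ^ d + 1 by ring, h0]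
        simp
      · simpa using h0
    · have : (0 : ℕ) ≠ d := by omega
      simp only [q, coeff_add, coeff_X_pow, coeff_C_mul, coeff_X_zero, coeff_C_zero, this, if_false,
        mul_zero, zero_add, mul_one]
      rw [← mul_pow]
      simp
  · obtain ⟨s, hs0, hs1⟩ := h.resolve_left h2
    refine ⟨X - C s⁻¹, s, monic_X_sub_C _, by rw [natDegree_X_sub_C]; omega, hs0, ?_, ?_⟩
    · rw [eval_sub, eval_X, eval_C, sub_ne_zero]
      exact fun e => hs1 (by nth_rw 2 [e]; exact mul_inv_cancel₀ hs0)
    · rw [show d = 1 by omega]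
      simp [hs0]

/-- **The core construction.** -/
theorem core [FiniteDimensional K W] {T : Module.End K (W × K)} (Φ : Module.End K W) (φ : Dual K W)
    (hT : ∀ w, T (w, 0) = (Φ w, φ w)) (hdet : LinearMap.det T = 1) (sft : Module.End K W)
    (α : Dual K W) (hφ : ∀ z, φ (sft z) = 0) (h1 : InvFree sft α) (h2 : InvFree (Φ ∘ₗ sft) α)
    {x₀ : Dual K W} (hx₀ : x₀ ≠ 0) (hx₀Φ : ∀ w, x₀ (Φ w) = 0) (hd1 : 1 ≤ finrank K W)
    (hd : 2 ≤ finrank K W ∨ ∃ s : K, s ≠ 0 ∧ s * s ≠ 1) : IsComm T := by
  obtain ⟨h, s, hm, hdeg, hs, hhs, hdet0⟩ := exists_poly hd1 hd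
  obtain ⟨d₀, hB, hBfree⟩ := h2.exists_completion hm hdeg
  set B : Module.End K W := Φ ∘ₗ sft + α.smulRight d₀ with hBdef
  have hdB : LinearMap.det B * s = 1 := by rw [hBfree.det_eq hm hdeg hB, hdeg.symm]; simpa [hdeg] using hdet0
  have hdB0 : LinearMap.det B ≠ 0 := left_ne_zero_of_mul_eq_one hdB
  have hBu : Function.Bijective B :=
    (Module.End.isUnit_iff B).1 ((LinearMap.isUnit_iff_isUnit_det B).2 (isUnit_iff_ne_zero.2 hdB0))
  have hd₀ : x₀ d₀ ≠ 0 := fun e => hx₀ (LinearMap.ext fun w => by
    obtain ⟨y, rfl⟩ := hBu.2 w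
    simp [hBdef, hx₀Φ, e])
  -- the first approximation
  obtain ⟨Ti, hTi⟩ := (LinearMap.isUnit_iff_isUnit_det T).2 (by rw [hdet]; exact isUnit_one)
  let b₀ : Module.End K (W × K) := LinearMap.prodMap B (s • LinearMap.id)
  let M : Module.End K (W × K) := (↑Ti⁻¹ : Module.End K (W × K)) * b₀
  have hTM : T * M = b₀ := by rw [← mul_assoc, ← hTi, Units.mul_inv, one_mul]
  have hTinj : Function.Injective T := ((Module.End.isUnit_iff T).1 ⟨Ti, hTi⟩).1
  have hMfree : InvFree M (LinearMap.snd K W K) := by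
    refine InvFree.of_submodule fun Z hZ1 hZ2 => ?_
    have key : ∀ w, (w, (0 : K)) ∈ Z → α w = 0 ∧ M (w, 0) = (sft w, 0) := fun w hw => by
      have h3 := hZ1 _ (hZ2 _ hw)
      obtain ⟨w', hw'⟩ : ∃ w', M (w, (0 : K)) = (w', 0) := ⟨_, Prod.ext rfl h3⟩
      have h4 : (B w, (0 : K)) = (Φ w', φ w') := by
        rw [← hT, ← hw', ← Module.End.mul_apply, hTM]; simp [b₀]
      have h5 := congrArg x₀ (Prod.ext_iff.1 h4).1
      simp only [hBdef, LinearMap.add_apply, LinearMap.comp_apply, LinearMap.smulRight_apply,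
        map_add, map_smul, hx₀Φ, zero_add, smul_eq_mul] at h5
      have hα : α w = 0 := (mul_eq_zero.1 h5).resolve_right hd₀
      refine ⟨hα, hTinj ?_⟩
      rw [hT, hφ, ← Module.End.mul_apply, hTM]
      simp [b₀, hBdef, hα]
    have hZ : Z.comap (LinearMap.inl K W K) = ⊥ := h1.submodule_eq_bot _ (fun w hw => (key w hw).1)
      fun w hw => by
        show (sft w, (0 : K)) ∈ Z
        rw [← (key w hw).2]
        exact hZ2 _ hw
    refine (Submodule.eq_bot_iff _).2 fun z hz => ?_
    have hz2 : z.2 = 0 := hZ1 z hz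
    refine Prod.ext ((Submodule.eq_bot_iff _).1 hZ _ ?_) hz2
    show (z.1, (0 : K)) ∈ Z
    rw [← hz2]
    exact hz
  -- the completion
  let f : K[X] := h * (X - C s)
  have hfm : f.Monic := hm.mul (monic_X_sub_C s)
  have hfd : f.natDegree = finrank K (W × K) := by
    rw [hm.natDegree_mul (monic_X_sub_C s), hdeg, natDegree_X_sub_C, Module.finrank_prod,
      Module.finrank_self]
  obtain ⟨d', hfM, hM'free⟩ := hMfree.exists_completion hfm hfd
  set M' : Module.End K (W × K) := M + (LinearMap.snd K W K).smulRight d' with hM'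
  set b : Module.End K (W × K) := T * M' with hb
  have hb_apply : ∀ z : W × K,
      b z = (B z.1 + z.2 • (T d').1, s * z.2 + z.2 * (T d').2) := fun z => by
    rw [hb, hM', mul_add, hTM]
    simp [b₀, Prod.ext_iff]
  have hdM' : LinearMap.det M' = 1 := by
    rw [hM'free.det_eq hfm hfd hfM, Module.finrank_prod, Module.finrank_self]
    simp only [f, mul_coeff_zero, coeff_sub, coeff_X_zero, coeff_C_zero, zero_sub, pow_succ]
    linear_combination hdet0
  have hdb : LinearMap.det b = 1 := by rw [hb, map_mul, hdet, hdM', one_mul]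
  -- the last diagonal entry is unchanged
  obtain ⟨u', hu'⟩ := hBu.2 (T d').1
  have hs' : (T d').2 = 0 := by
    have e : b = (LinearMap.prodMap B ((s + (T d').2) • LinearMap.id)) *
        LinearMap.transvection (LinearMap.snd K W K) (u', 0) := LinearMap.ext fun z => by
      rw [hb_apply]
      simp [LinearMap.transvection.apply, hu', Prod.ext_iff]
      ring
    rw [e, map_mul, LinearMap.det_prodMap, LinearMap.transvection.det] at hdb
    simp only [LinearMap.det_smul, LinearMap.det_id, Module.finrank_self, pow_one, mul_one,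
      LinearMap.snd_apply, add_zero] at hdb
    have := mul_left_cancel₀ hdB0 (hdb.trans hdB.symm)
    simpa using this
  -- diagonalise
  have hinj : Function.Injective (s • LinearMap.id - B : Module.End K W) := by
    rw [← LinearMap.ker_eq_bot]
    refine (Submodule.eq_bot_iff _).2 fun x hx => by_contra fun hx0 => hhs ?_
    have hxe : B x = s • x := by
      have h' := LinearMap.mem_ker.1 hx
      rw [LinearMap.sub_apply, LinearMap.smul_apply, LinearMap.id_apply, sub_eq_zero] at h'
      exact h'.symm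
    have := Module.End.aeval_apply_of_hasEigenvector (p := h) (f := B) (μ := s)
      ⟨Module.End.mem_eigenspace_iff.2 hxe, hx0⟩
    rw [hB, LinearMap.zero_apply, eq_comm, smul_eq_zero] at this
    exact this.resolve_right hx0
  obtain ⟨w₀, hw₀⟩ := (LinearMap.injective_iff_surjective.1 hinj) (T d').1
  simp only [LinearMap.sub_apply, LinearMap.smul_apply, LinearMap.id_apply] at hw₀
  let E : Module.End K (W × K) := LinearMap.transvection (LinearMap.snd K W K) (w₀, 0)
  let b₁ : Module.End K (W × K) := LinearMap.prodMap B (s • LinearMap.id)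
  have hE : b * E = E * b₁ := LinearMap.ext fun z => by
    rw [Module.End.mul_apply, hb_apply, Module.End.mul_apply]
    simp only [E, b₁, LinearMap.transvection.apply, LinearMap.snd_apply, LinearMap.prodMap_apply,
      Prod.smul_mk, smul_zero, Prod.fst_add, Prod.snd_add, LinearMap.smul_apply,
      LinearMap.id_apply, smul_eq_mul, add_zero, hs', map_add, map_smul, mul_zero]
    refine Prod.ext ?_ (by simp)
    simp only [← hw₀, Prod.fst_add]
    module
  -- the conjugation
  have hb₁ : aeval b₁ f = 0 := by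
    rw [aeval_prodMap]
    have e : aeval (s • LinearMap.id : Module.End K K) (X - C s) = 0 := by
      ext; simp [Module.algebraMap_end_apply]
    ext x <;> simp [f, map_mul, hB, e]
  have hco : IsCoprime h (X - C s) := ((Polynomial.irreducible_X_sub_C s).coprime_iff_not_dvd.2
    fun hdvd => hhs (dvd_iff_isRoot.1 hdvd)).symm
  have hb₁free := hBfree.prod (invFree_scalar s) hB (by ext; simp [Module.algebraMap_end_apply]) hco
  obtain ⟨P, hP⟩ := hb₁free.exists_conj hM'free hfm hfd hb₁ hfM
  let r : K := (LinearMap.det (P : Module.End K (W × K)))⁻¹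
  have hPd : LinearMap.det (P : Module.End K (W × K)) ≠ 0 :=
    (LinearEquiv.isUnit_det' P).ne_zero
  let z : Module.End K (W × K) := LinearMap.prodMap LinearMap.id (r • LinearMap.id)
  let Ei : Module.End K (W × K) := LinearMap.transvection (LinearMap.snd K W K) (-w₀, 0)
  have hEEi : E * Ei = 1 := LinearMap.ext fun x => by
    simp [E, Ei, LinearMap.transvection.apply, Prod.ext_iff]
  have hEiE : Ei * E = 1 := LinearMap.ext fun x => by
    simp [E, Ei, LinearMap.transvection.apply, Prod.ext_iff]
  have hzc : z * b₁ = b₁ * z := LinearMap.ext fun x => by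
    simp [z, b₁, mul_left_comm, Prod.ext_iff]
  refine ⟨b, (P : Module.End K (W × K)) * z * Ei, hdb, ?_, ?_⟩
  · rw [map_mul, map_mul]
    simp only [z, Ei, LinearMap.det_prodMap, LinearMap.det_id, LinearMap.det_smul,
      Module.finrank_self, pow_one, LinearMap.transvection.det, LinearMap.snd_apply]
    simp [r, hPd]
  · have e1 : Ei * b = b₁ * Ei := by
      calc Ei * b = Ei * (b * E) * Ei := by rw [mul_assoc, mul_assoc, hEEi, mul_one]
        _ = b₁ * Ei := by rw [hE, ← mul_assoc, hEiE, one_mul]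
    have e2 : (P : Module.End K (W × K)) * b₁ = M' * P := LinearMap.ext hP
    calc T * ((P : Module.End K (W × K)) * z * Ei) * b
        = T * (P * (z * (Ei * b))) := by simp only [mul_assoc]
      _ = T * ((P * b₁) * (z * Ei)) := by
          rw [e1, ← mul_assoc z, hzc]; simp only [mul_assoc]
      _ = b * (P * z * Ei) := by rw [e2, hb]; simp only [mul_assoc]

/-- The shift on the distinguished block. -/
abbrev shift (e : ℕ) : Module.End K (Fin e → K) := comp 0

theorem shift_apply {e : ℕ} (x : Fin e → K) (j : Fin e) :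
    shift e x j = if (j : ℕ) = 0 then 0 else ext ((j : ℕ) - 1) x := by
  simp [comp_apply]

/-- **The arrangement**: one distinguished block, a segment and a final piece. -/
theorem layout {e : ℕ} (he : 1 ≤ e) {U R : Type*} [AddCommGroup U] [Module K U]
    [FiniteDimensional K U] [AddCommGroup R] [Module K R] [FiniteDimensional K R]
    {TU : Module.End K U} {TR : Module.End K R} (hU : GoodSeg TU) (hR : GoodEnd TR)
    (hpar : Even e → Subsingleton R)
    {T : Module.End K (((Fin e → K) × U × R) × K)}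
    (hT : ∀ x u r, T ((x, u, r), 0) = ((shift e x, TU u, TR r), ext (e - 1) x))
    (hdet : LinearMap.det T = 1)
    (hd : 2 ≤ finrank K ((Fin e → K) × U × R) ∨ ∃ s : K, s ≠ 0 ∧ s * s ≠ 1) : IsComm T := by
  classical
  obtain ⟨S, hS1, hS2⟩ := hU
  obtain ⟨Q, hQ1, hQ2, hQ0⟩ : ∃ Q : Seg K R, Collapse Q.N Q.o ∧ Collapse (TR ∘ₗ Q.N) Q.o ∧
      (Even e → ∀ z, Q.out z = z.1) := by
    by_cases hev : Even e
    · have := hpar hev
      exact ⟨⟨0, LinearMap.fst K K R, fun _ _ h => Prod.ext h (Subsingleton.elim _ _)⟩,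
        fun _ _ _ _ => (Submodule.eq_bot_iff _).2 fun _ _ => Subsingleton.elim _ _,
        fun _ _ _ _ => (Submodule.eq_bot_iff _).2 fun _ _ => Subsingleton.elim _ _, fun _ _ => rfl⟩
    · obtain ⟨Q, h1, h2⟩ := hR
      exact ⟨Q, h1, h2, fun h => absurd h hev⟩
  let W := (Fin e → K) × U × R
  let θ : K := if Even e then 1 else 0
  let px : W →ₗ[K] (Fin e → K) := LinearMap.fst K _ _
  let pu : W →ₗ[K] U := LinearMap.fst K U R ∘ₗ LinearMap.snd K _ _
  let pr : W →ₗ[K] R := LinearMap.snd K U R ∘ₗ LinearMap.snd K _ _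
  let inU : W →ₗ[K] K × U := LinearMap.prod (ext (e - 1) ∘ₗ px) pu
  let L : ℕ → Dual K W := fun i => if i = 0 then S.out ∘ₗ inU
    else ext (i - 1) ∘ₗ px - (if i + 1 = e then θ else 0) • (ext (e - 1) ∘ₗ px)
  let inR : W →ₗ[K] K × R := LinearMap.prod (L (e - 1)) pr
  let sx : W →ₗ[K] (Fin e → K) :=
    LinearMap.pi fun i => if (i : ℕ) + 1 = e then 0 else L i
  let sft : Module.End K W := LinearMap.prod sx (LinearMap.prod (S.next ∘ₗ inU) (Q.next ∘ₗ inR))
  let α : Dual K W := Q.out ∘ₗ inR
  let Φ : Module.End K W := LinearMap.prodMap (shift e) (LinearMap.prodMap TU TR)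
  let φ : Dual K W := ext (e - 1) ∘ₗ px
  have hsx : ∀ (w : W) (i : ℕ) (hi : i < e),
      sx w ⟨i, hi⟩ = if i + 1 = e then 0 else L i w := by
    intro w i hi
    simp only [sx, LinearMap.pi_apply]
    split_ifs <;> simp
  have hlast : ∀ w : W, ext (e - 1) (sx w) = (0 : K) := fun w => by
    rw [ext_of_lt _ (by omega), hsx, if_pos (by omega)]
  have hT0 : ∀ w : W, T (w, 0) = (Φ w, φ w) := fun w => hT w.1 w.2.1 w.2.2
  have hφ : ∀ w, φ (sft w) = 0 := hlast
  -- from the carries to the coordinates
  have hcoord : ∀ w : W, ext (e - 1) (px w) = 0 → (∀ i, 1 ≤ i → i < e → L i w = 0) → px w = 0 := by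
    intro w ha hL
    funext k
    show px w k = 0
    rw [← ext_fin (px w) k]
    rcases Nat.lt_or_ge ((k : ℕ) + 1) e with hk | hk
    · have := hL (k + 1) (by omega) hk
      simp only [L, Nat.succ_ne_zero, if_false, Nat.add_sub_cancel] at this
      split_ifs at this <;> simpa [ha] using this
    · rw [show (k : ℕ) = e - 1 by omega]; exact ha
  have hinj : ∀ w : W, α w = 0 → sft w = 0 → w = 0 := by
    intro w hα hw
    have hU := congrArg (fun z : W => z.2.1) hw
    have hR' := congrArg (fun z : W => z.2.2) hw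
    have hx := congrArg (fun z : W => z.1) hw
    have hQi := Q.inj (inR w) hR' hα
    have hLe : L (e - 1) w = 0 := congrArg Prod.fst hQi
    have hr : pr w = 0 := congrArg Prod.snd hQi
    have hL : ∀ i, i < e → L i w = 0 := fun i hi => by
      by_cases h : i + 1 = e
      · rwa [show i = e - 1 by omega]
      · have := congrFun hx ⟨i, hi⟩
        rw [show (sft w).1 = sx w from rfl, hsx, if_neg h] at this
        exact this
    have hSi := S.inj (inU w) hU (by simpa [L] using hL 0 (by omega))
    exact Prod.ext (hcoord w (congrArg Prod.fst hSi) fun i _ hi => hL i hi)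
      (Prod.ext (congrArg Prod.snd hSi) hr)
  have hTinj : Function.Injective T := ((Module.End.isUnit_iff T).1
    ((LinearMap.isUnit_iff_isUnit_det T).2 (by rw [hdet]; exact isUnit_one))).1
  have hinj2 : ∀ w : W, α w = 0 → (Φ ∘ₗ sft) w = 0 → w = 0 := fun w hα hw => hinj w hα (by
    have : T (sft w, 0) = T 0 := by
      rw [hT0, hφ, map_zero]; exact Prod.ext hw rfl
    exact congrArg Prod.fst (hTinj this))
  -- the two other pieces collapse once their input vanishes
  have hu0 : ∀ (Z : Submodule K W) (A : Module.End K W) (AU : Module.End K U),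
      (∀ w : W, (A w).2.1 = AU (S.next (inU w))) → Collapse (AU ∘ₗ S.N) 0 →
      (∀ z ∈ Z, A z ∈ Z) → (∀ z ∈ Z, ∃ y ∈ Z, A y = z) →
      (∀ z ∈ Z, ext (e - 1) (px z) = (0 : K)) → ∀ z ∈ Z, pu z = 0 ∧ L 0 z = 0 := by
    intro Z A AU hA hc h2 h3 ha
    have e1 : ∀ z ∈ Z, inU z = (0, pu z) := fun z hz => Prod.ext (ha z hz) rfl
    have h : Z.map pu = ⊥ := hc _ (fun _ _ => rfl)
      (by
        rintro _ ⟨z, hz, rfl⟩
        exact ⟨A z, h2 z hz, (hA z).trans (by rw [e1 z hz]; rfl)⟩)
      (by
        rintro _ ⟨z, hz, rfl⟩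
        obtain ⟨y, hy, rfl⟩ := h3 z hz
        exact ⟨_, ⟨y, hy, rfl⟩, ((hA y).trans (by rw [e1 y hy]; rfl)).symm⟩)
    intro z hz
    have hu : pu z = 0 := (Submodule.eq_bot_iff _).1 h _ ⟨z, hz, rfl⟩
    refine ⟨hu, ?_⟩
    show S.out (inU z) = 0
    rw [e1 z hz, hu]
    exact map_zero _
  have hr0 : ∀ (Z : Submodule K W) (A : Module.End K W) (AR : Module.End K R),
      (∀ w : W, (A w).2.2 = AR (Q.next (inR w))) → Collapse (AR ∘ₗ Q.N) Q.o →
      (∀ z ∈ Z, α z = 0) → (∀ z ∈ Z, A z ∈ Z) → (∀ z ∈ Z, ∃ y ∈ Z, A y = z) →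
      (∀ z ∈ Z, L (e - 1) z = 0) → ∀ z ∈ Z, pr z = 0 := by
    intro Z A AR hA hc h1 h2 h3 hL
    have e1 : ∀ z ∈ Z, inR z = (0, pr z) := fun z hz => Prod.ext (hL z hz) rfl
    have h : Z.map pr = ⊥ := hc _
      (by
        rintro _ ⟨z, hz, rfl⟩
        rw [Seg.o_apply, ← e1 z hz]
        exact h1 z hz)
      (by
        rintro _ ⟨z, hz, rfl⟩
        exact ⟨A z, h2 z hz, (hA z).trans (by rw [e1 z hz]; rfl)⟩)
      (by
        rintro _ ⟨z, hz, rfl⟩
        obtain ⟨y, hy, rfl⟩ := h3 z hz
        exact ⟨_, ⟨y, hy, rfl⟩, ((hA y).trans (by rw [e1 y hy]; rfl)).symm⟩)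
    exact fun z hz => (Submodule.eq_bot_iff _).1 h _ ⟨z, hz, rfl⟩
  have hLx : ∀ (z : W) (i : ℕ), 1 ≤ i → ext (e - 1) (px z) = 0 → L i z = ext (i - 1) (px z) := by
    intro z i hi ha
    simp only [L, show i ≠ 0 by omega, if_false]
    split_ifs <;> simp [ha]
  have hC1 : Collapse sft α := by
    intro Z h1 h2 h3
    have ha : ∀ z ∈ Z, ext (e - 1) (px z) = (0 : K) := fun z hz => by
      obtain ⟨y, hy, rfl⟩ := h3 z hz; exact hlast y
    have hu := hu0 Z sft LinearMap.id (fun _ => rfl) hS1 h2 h3 ha
    have hx : ∀ i, i < e → ∀ z ∈ Z, ext i (px z) = (0 : K) := by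
      intro i
      induction i with
      | zero =>
        intro hi z hz
        obtain ⟨y, hy, rfl⟩ := h3 z hz
        rw [ext_of_lt _ hi, show px (sft y) = sx y from rfl, hsx]
        split_ifs
        · rfl
        · exact (hu y hy).2
      | succ i ih =>
        intro hi z hz
        obtain ⟨y, hy, rfl⟩ := h3 z hz
        rw [ext_of_lt _ hi, show px (sft y) = sx y from rfl, hsx]
        split_ifs
        · rfl
        · rw [hLx y _ (by omega) (ha y hy)]
          exact ih (by omega) y hy
    have hL : ∀ z ∈ Z, L (e - 1) z = 0 := fun z hz => by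
      rcases Nat.eq_zero_or_pos (e - 1) with h0 | h0
      · rw [h0]; exact (hu z hz).2
      · rw [hLx z _ h0 (ha z hz)]; exact hx _ (by omega) z hz
    have hr := hr0 Z sft LinearMap.id (fun _ => rfl) hQ1 h1 h2 h3 hL
    exact (Submodule.eq_bot_iff _).2 fun z hz => Prod.ext
      (funext fun k => (ext_fin (px z) k).symm.trans (hx k k.isLt z hz))
      (Prod.ext (hu z hz).1 (hr z hz))
  have hC2 : Collapse (Φ ∘ₗ sft) α := by
    intro Z h1 h2 h3
    have himg : ∀ (w : W) (i : ℕ) (hi : i < e), ((Φ ∘ₗ sft) w).1 ⟨i, hi⟩ =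
        if i = 0 then 0 else if i = 1 then L 0 w else ext (i - 2) (px w) := by
      intro w i hi
      show shift e (sx w) ⟨i, hi⟩ = _
      rw [shift_apply]
      by_cases h0 : i = 0
      · simp [h0]
      · simp only [h0, if_false]
        rw [ext_of_lt _ (by omega), hsx, if_neg (by omega)]
        by_cases h1 : i = 1
        · simp [h1]
        · rw [if_neg h1]
          simp [L, show i - 1 ≠ 0 by omega, show i - 1 + 1 ≠ e by omega,
            show i - 1 - 1 = i - 2 by omega]
    have heven : ∀ j, 2 * j < e → ∀ z ∈ Z, ext (2 * j) (px z) = (0 : K) := by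
      intro j
      induction j with
      | zero =>
        intro hj z hz
        obtain ⟨y, hy, rfl⟩ := h3 z hz
        rw [ext_of_lt _ hj]
        exact (himg y _ hj).trans (if_pos rfl)
      | succ j ih =>
        intro hj z hz
        obtain ⟨y, hy, rfl⟩ := h3 z hz
        rw [ext_of_lt _ hj]
        refine (himg y _ hj).trans ?_
        rw [if_neg (by omega), if_neg (by omega), show 2 * (j + 1) - 2 = 2 * j by omega]
        exact ih (by omega) y hy
    have ha : ∀ z ∈ Z, ext (e - 1) (px z) = (0 : K) := fun z hz => by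
      by_cases hev : Even e
      · have h : L (e - 1) z = 0 := by
          have := h1 z hz
          rwa [show α z = Q.out (inR z) from rfl, hQ0 hev] at this
        have he2 : e % 2 = 0 := Nat.even_iff.1 hev
        simp only [L, show e - 1 ≠ 0 by omega, if_false, show e - 1 + 1 = e by omega, if_true, θ,
          hev, one_smul, LinearMap.sub_apply, LinearMap.comp_apply] at h
        rw [show e - 1 - 1 = 2 * (e / 2 - 1) by omega, heven _ (by omega) z hz, zero_sub,
          neg_eq_zero] at h
        exact h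
      · have he2 : e % 2 = 1 := Nat.odd_iff.1 (Nat.not_even_iff_odd.1 hev)
        rw [show e - 1 = 2 * (e / 2) by omega]
        exact heven _ (by omega) z hz
    have hu := hu0 Z (Φ ∘ₗ sft) TU (fun _ => rfl) hS2 h2 h3 ha
    have hodd : ∀ j, 2 * j + 1 < e → ∀ z ∈ Z, ext (2 * j + 1) (px z) = (0 : K) := by
      intro j
      induction j with
      | zero =>
        intro hj z hz
        obtain ⟨y, hy, rfl⟩ := h3 z hz
        rw [ext_of_lt _ hj]
        refine (himg y _ hj).trans ?_
        rw [if_neg (by omega), if_pos (by omega)]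
        exact (hu y hy).2
      | succ j ih =>
        intro hj z hz
        obtain ⟨y, hy, rfl⟩ := h3 z hz
        rw [ext_of_lt _ hj]
        refine (himg y _ hj).trans ?_
        rw [if_neg (by omega), if_neg (by omega), show 2 * (j + 1) + 1 - 2 = 2 * j + 1 by omega]
        exact ih (by omega) y hy
    have hx : ∀ i, i < e → ∀ z ∈ Z, ext i (px z) = (0 : K) := fun i hi z hz => by
      rcases Nat.even_or_odd' i with ⟨j, rfl | rfl⟩
      · exact heven j hi z hz
      · exact hodd j hi z hz
    have hL : ∀ z ∈ Z, L (e - 1) z = 0 := fun z hz => by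
      rcases Nat.eq_zero_or_pos (e - 1) with h0 | h0
      · rw [h0]; exact (hu z hz).2
      · rw [hLx z _ h0 (ha z hz)]; exact hx _ (by omega) z hz
    have hr := hr0 Z (Φ ∘ₗ sft) TR (fun _ => rfl) hQ2 h1 h2 h3 hL
    exact (Submodule.eq_bot_iff _).2 fun z hz => Prod.ext
      (funext fun k => (ext_fin (px z) k).symm.trans (hx k k.isLt z hz))
      (Prod.ext (hu z hz).1 (hr z hz))
  refine core Φ φ hT0 hdet sft α hφ (hC1.invFree hinj) (hC2.invFree hinj2)
    (x₀ := ext 0 ∘ₗ px) (fun h => ?_) (fun w => ?_) ?_ hd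
  · have := congrArg (fun f : Dual K W => f (Pi.single ⟨0, he⟩ 1, 0, 0)) h
    simp only [px, LinearMap.comp_apply, LinearMap.zero_apply] at this
    rw [ext_of_lt _ he] at this
    have h' : Pi.single (M := fun _ : Fin e => K) ⟨0, he⟩ 1 ⟨0, he⟩ = (0 : K) := this
    rw [Pi.single_eq_same] at h'
    exact one_ne_zero h'
  · show ext 0 (shift e (px w)) = 0
    rw [ext_of_lt _ he, shift_apply, if_pos rfl]
  · rw [Module.finrank_prod, Module.finrank_pi, Fintype.card_fin]
    omega

end Cfsg.Agent.OreSL
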