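import Cfsg.Agent.OreSL.Core

/-!
# Cyclic decomposition and the commutator theorem for non-scalar endomorphisms
-/

namespace Cfsg.Agent.OreSL

open Polynomial Module

universe u v

variable {K : Type u} [Field K]

/-- A sum of companion blocks. -/
def dsum {m : ℕ} (s : Fin m → ℕ) (c : ∀ i, Fin (s i) → K) :
    Module.End K (∀ i, Fin (s i) → K) :=
  LinearMap.pi fun i => comp (c i) ∘ₗ LinearMap.proj i

theorem dsum_apply {m : ℕ} (s : Fin m → ℕ) (c : ∀ i, Fin (s i) → K) (x : ∀ i, Fin (s i) → K)
    (i : Fin m) : dsum s c x i = comp (c i) (x i) := rfl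

/-- Split off one index. -/
def splitAt {m : ℕ} (s : Fin (m + 1) → ℕ) (i₀ : Fin (m + 1)) :
    (∀ i, Fin (s i) → K) ≃ₗ[K] (Fin (s i₀) → K) × (∀ j : Fin m, Fin (s (i₀.succAbove j)) → K) where
  toFun x := (x i₀, fun j => x (i₀.succAbove j))
  invFun z := Fin.insertNth (α := fun i => Fin (s i) → K) i₀ z.1 z.2
  map_add' _ _ := rfl
  map_smul' _ _ := rfl
  left_inv x := by
    funext i
    rcases eq_or_ne i i₀ with rfl | h
    · simp
    · obtain ⟨j, rfl⟩ := Fin.exists_succAbove_eq h
      simp
  right_inv z := by simp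

theorem splitAt_dsum {m : ℕ} (s : Fin (m + 1) → ℕ) (c : ∀ i, Fin (s i) → K) (i₀ : Fin (m + 1))
    (x : ∀ i, Fin (s i) → K) : splitAt s i₀ (dsum s c x) =
      ((comp (c i₀)).prodMap (dsum _ fun j => c (i₀.succAbove j))) (splitAt s i₀ x) := rfl

/-- A finite family of blocks is a segment, or can stand last and absorbs one more even block. -/
theorem family : ∀ {m : ℕ} (s : Fin m → ℕ) (c : ∀ i, Fin (s i) → K),
    GoodSeg (dsum s c) ∨
      ((∃ i, 2 ≤ s i ∧ Even (s i)) ∧ GoodEnd (dsum s c) ∧
        ∀ (t : ℕ) (d : Fin t → K), 2 ≤ t → Even t → GoodSeg ((comp d).prodMap (dsum s c))) := by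
  intro m
  induction m with
  | zero => exact fun s c => Or.inl (goodSeg_zero _)
  | succ m ih =>
    intro s c
    set s' := fun j : Fin m => s ((0 : Fin (m + 1)).succAbove j)
    set c' : ∀ j, Fin (s' j) → K := fun j => c ((0 : Fin (m + 1)).succAbove j)
    have e := splitAt_dsum s c 0
    have e' : ∀ z, (splitAt (K := K) s 0).symm (((comp (c 0)).prodMap (dsum s' c')) z) =
        dsum s c ((splitAt s 0).symm z) := fun z => by
      apply (splitAt (K := K) s 0).injective
      rw [LinearEquiv.apply_symm_apply, e, LinearEquiv.apply_symm_apply]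
    have pairEquiv : ∀ (t : ℕ) (d : Fin t → K), GoodSeg (((comp d).prodMap (comp (c 0))).prodMap
        (dsum s' c')) → GoodSeg ((comp d).prodMap (dsum s c)) := fun t d h =>
      h.of_equiv ((LinearEquiv.prodAssoc K _ _ _).trans
        ((LinearEquiv.refl K _).prodCongr (splitAt s 0).symm)) fun z => Prod.ext rfl (e' (z.1.2, z.2))
    rcases (Nat.even_or_odd (s 0)) with hev | hodd
    · by_cases h0 : s 0 = 0
      · have : Subsingleton (Fin (s 0) → K) := by rw [h0]; infer_instance
        have hb : GoodSeg (comp (c 0)) := goodSeg_zero _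
        rcases ih s' c' with h | ⟨⟨i, hi⟩, hend, hp⟩
        · exact Or.inl ((hb.prod h).of_equiv (splitAt s 0).symm e')
        · refine Or.inr ⟨⟨_, hi⟩, (hb.prod_end hend).of_equiv (splitAt s 0).symm e',
            fun t d ht ht' => ?_⟩
          refine ((hb.prod (hp t d ht ht'))).of_equiv
            ((LinearEquiv.prodComm K _ _).trans ((LinearEquiv.prodAssoc K _ _ _).trans
              ((LinearEquiv.refl K _).prodCongr
                ((LinearEquiv.prodComm K _ _).trans (splitAt s 0).symm)))) fun z => ?_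
          exact Prod.ext rfl (e' (z.1, z.2.2))
      · have h2 : 2 ≤ s 0 := by obtain ⟨k, hk⟩ := hev; omega
        rcases ih s' c' with h | ⟨-, -, hp⟩
        · refine Or.inr ⟨⟨0, h2, hev⟩, ?_, fun t d ht ht' => pairEquiv t d
            ((goodSeg_pair ht' hev ht h2 d (c 0)).prod h)⟩
          exact (h.prod_end (goodEnd_even hev h2 (c 0))).of_equiv
            ((LinearEquiv.prodComm K _ _).trans (splitAt s 0).symm) fun z => e' (z.2, z.1)
        · exact Or.inl ((hp _ (c 0) h2 hev).of_equiv (splitAt s 0).symm e')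
    · have hb : GoodSeg (comp (c 0)) := goodSeg_odd hodd (c 0)
      rcases ih s' c' with h | ⟨⟨i, hi⟩, hend, hp⟩
      · exact Or.inl ((hb.prod h).of_equiv (splitAt s 0).symm e')
      · refine Or.inr ⟨⟨_, hi⟩, (hb.prod_end hend).of_equiv (splitAt s 0).symm e',
          fun t d ht ht' => ?_⟩
        refine ((hb.prod (hp t d ht ht'))).of_equiv
          ((LinearEquiv.prodComm K _ _).trans ((LinearEquiv.prodAssoc K _ _ _).trans
            ((LinearEquiv.refl K _).prodCongr
              ((LinearEquiv.prodComm K _ _).trans (splitAt s 0).symm)))) fun z => ?_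
        exact Prod.ext rfl (e' (z.1, z.2.2))

/-- Appending the last coordinate. -/
def snocEquiv (e : ℕ) : ((Fin e → K) × K) ≃ₗ[K] (Fin (e + 1) → K) where
  toFun z := Fin.snoc (α := fun _ => K) z.1 z.2
  invFun x := (fun i => x i.castSucc, x (Fin.last e))
  map_add' a b := by
    funext i
    refine Fin.lastCases ?_ (fun j => ?_) i <;> simp
  map_smul' a b := by
    funext i
    refine Fin.lastCases ?_ (fun j => ?_) i <;> simp
  left_inv z := by simp
  right_inv x := by
    funext i
    refine Fin.lastCases ?_ (fun j => ?_) i <;> simp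

theorem comp_snoc {e : ℕ} (he : 1 ≤ e) (c : Fin (e + 1) → K) (x : Fin e → K) :
    comp c (snocEquiv e (x, 0)) = snocEquiv e (shift e x, ext (e - 1) x) := by
  have hs : ∀ j : ℕ, j < e → ext j (snocEquiv e (x, (0 : K))) = ext j x := fun j hj => by
    rw [ext_of_lt _ (by omega), ext_of_lt _ hj]
    exact Fin.snoc_castSucc (α := fun _ => K) (i := ⟨j, hj⟩) _ _
  have hl : ext e (snocEquiv e (x, (0 : K))) = 0 := by
    rw [ext_of_lt _ (by omega)]
    exact Fin.snoc_last (α := fun _ => K) _ _
  funext i
  rw [comp_apply, Nat.add_sub_cancel, hl, mul_zero, add_zero]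
  refine Fin.lastCases ?_ (fun j => ?_) i
  · rw [if_neg (by simp; omega), show snocEquiv e (shift e x, ext (e - 1) x) (Fin.last e) =
      ext (e - 1) x from Fin.snoc_last (α := fun _ => K) _ _, Fin.val_last, hs _ (by omega)]
  · rw [show snocEquiv e (shift e x, ext (e - 1) x) j.castSucc = shift e x j from
      Fin.snoc_castSucc (α := fun _ => K) _ _ _, shift_apply, Fin.val_castSucc]
    split_ifs with h
    · rfl
    · exact hs _ (by omega)

set_option linter.unusedSectionVars false

variable {V : Type v} [AddCommGroup V] [Module K V] [FiniteDimensional K V]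

/-- A distinguished block of size at least two, all other blocks arbitrary unless it is odd. -/
theorem isComm_of_block {T : Module.End K V} (hdet : LinearMap.det T = 1) {e : ℕ} (he : 1 ≤ e)
    (c : Fin (e + 1) → K) {m : ℕ} (s : Fin m → ℕ) (d : ∀ i, Fin (s i) → K)
    (E : ((Fin (e + 1) → K) × (∀ i, Fin (s i) → K)) ≃ₗ[K] V)
    (hE : ∀ z, T (E z) = E ((comp c).prodMap (dsum s d) z))
    (hpar : Even e → ∀ i, Even (s i) → s i = 0)
    (hd : 3 ≤ finrank K V ∨ ∃ a : K, a ≠ 0 ∧ a * a ≠ 1) : IsComm T := by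
  have main : ∀ {U : Type u} {R : Type u} [AddCommGroup U] [Module K U] [FiniteDimensional K U]
      [AddCommGroup R] [Module K R] [FiniteDimensional K R] (TU : Module.End K U)
      (TR : Module.End K R), GoodSeg TU → GoodEnd TR → (Even e → Subsingleton R) →
      ∀ G : (U × R) ≃ₗ[K] (∀ i, Fin (s i) → K),
        (∀ z, dsum s d (G z) = G (TU z.1, TR z.2)) → IsComm T := by
    intro U R _ _ _ _ _ _ TU TR hU hR hs G hG
    let Ψ : ((((Fin e → K) × U × R) × K)) ≃ₗ[K] V :=
      (LinearEquiv.prodAssoc K _ _ _).trans <|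
        ((LinearEquiv.refl K _).prodCongr (LinearEquiv.prodComm K _ _)).trans <|
          (LinearEquiv.prodAssoc K _ _ _).symm.trans <|
            ((snocEquiv e).prodCongr G).trans E
    have hΨ : ∀ x u r t, Ψ ((x, u, r), t) = E (snocEquiv e (x, t), G (u, r)) := fun _ _ _ _ => rfl
    refine IsComm.of_equiv Ψ (T := Ψ.symm.conj T)
      (fun v => by simp [LinearEquiv.conj_apply]) ?_
    refine layout (T := Ψ.symm.conj T) he hU hR hs (fun x u r => ?_) ?_ ?_
    · rw [LinearEquiv.conj_apply]
      simp only [LinearEquiv.symm_symm, LinearMap.comp_apply, LinearEquiv.coe_coe]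
      rw [LinearEquiv.symm_apply_eq, hΨ, hΨ, hE, LinearMap.prodMap_apply, comp_snoc he, hG]
    · rw [LinearEquiv.conj_apply, LinearMap.comp_assoc, LinearMap.det_conj, hdet]
    · rcases hd with h | h
      · left
        have := Ψ.finrank_eq
        rw [Module.finrank_prod (M := (Fin e → K) × U × R), Module.finrank_self] at this
        omega
      · exact Or.inr h
  rcases family s d with h | ⟨⟨i, hi2, hi⟩, hend, -⟩
  · refine main (R := Fin 0 → K) (dsum s d) 0 h (goodSeg_zero _).goodEnd (fun _ => inferInstance)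
      (LinearEquiv.prodUnique) fun z => ?_
    rfl
  · refine main (U := Fin 0 → K) 0 (dsum s d) (goodSeg_zero _) hend (fun he' => ?_)
      (LinearEquiv.uniqueProd) fun z => ?_
    · have := hpar he' i hi
      omega
    · rfl

/-- **Cyclic decomposition.** -/
theorem exists_dsum (T : Module.End K V) :
    ∃ (m : ℕ) (s : Fin m → ℕ) (c : ∀ i, Fin (s i) → K) (E : (∀ i, Fin (s i) → K) ≃ₗ[K] V),
      ∀ z, T (E z) = E (dsum s c z) := by
  obtain ⟨ι, _, p, hp, k, ⟨g⟩⟩ :=
    Module.equiv_directSum_of_isTorsion (Module.AEval.isTorsion_of_finiteDimensional K V T)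
  classical
  have hne : ∀ i, p i ^ k i ≠ 0 := fun i => pow_ne_zero _ (hp i).ne_zero
  let b : ∀ i, Basis (Fin (p i ^ k i).natDegree) K (AdjoinRoot (p i ^ k i)) :=
    fun i => (AdjoinRoot.powerBasis (hne i)).basis
  -- one block
  have blk : ∀ i, ∃ (Q : (K[X] ⧸ Submodule.span K[X] {p i ^ k i}) ≃ₗ[K]
      (Fin (p i ^ k i).natDegree → K)) (c : Fin (p i ^ k i).natDegree → K),
      ∀ x, Q ((X : K[X]) • x) = comp c (Q x) := by
    intro i
    set f := p i ^ k i
    let J : (K[X] ⧸ Submodule.span K[X] {f}) ≃ₗ[K] AdjoinRoot f :=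
      { toFun := fun x => x
        invFun := fun x => x
        map_add' := fun _ _ => rfl
        map_smul' := fun _ _ => rfl
        left_inv := fun _ => rfl
        right_inv := fun _ => rfl }
    have hJ : ∀ x, J ((X : K[X]) • x) = AdjoinRoot.root f * J x := by
      intro x
      induction x using Submodule.Quotient.induction_on with
      | _ q => exact (map_mul (AdjoinRoot.mk f) X q :)
    let c : Fin f.natDegree → K := fun j => (b i).repr (AdjoinRoot.root f ^ f.natDegree) j
    refine ⟨J.trans (b i).equivFun, c, ?_⟩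
    have hb : ∀ j : Fin f.natDegree, b i j = AdjoinRoot.root f ^ (j : ℕ) := fun j => by
      rw [show b i j = (AdjoinRoot.powerBasis (hne i)).basis j from rfl, PowerBasis.coe_basis]
      rfl
    have key : (b i).equivFun.toLinearMap ∘ₗ LinearMap.mulLeft K (AdjoinRoot.root f) =
        comp c ∘ₗ (b i).equivFun.toLinearMap := by
      refine (b i).ext fun j => ?_
      have e1 : (b i).equivFun (b i j) = Pi.single j 1 := by
        funext q
        rw [Basis.equivFun_self, Pi.single_apply]
        simp only [eq_comm]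
      simp only [LinearMap.comp_apply, LinearEquiv.coe_coe, LinearMap.mulLeft_apply, hb, ← pow_succ']
      funext l
      have hl : (l : ℕ) < f.natDegree := l.isLt
      have hj0 : (j : ℕ) < f.natDegree := j.isLt
      rw [← hb j, e1, Basis.equivFun_apply, comp_apply]
      have hlast : ext (f.natDegree - 1) (Pi.single j (1 : K)) =
          if (j : ℕ) + 1 = f.natDegree then 1 else 0 := by
        rw [ext_of_lt _ (show f.natDegree - 1 < f.natDegree by omega), Pi.single_apply]
        simp only [Fin.ext_iff]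
        split_ifs <;> first | rfl | omega
      have hprev : (if (l : ℕ) = 0 then 0 else ext ((l : ℕ) - 1) (Pi.single j (1 : K))) =
          if (j : ℕ) + 1 = l then 1 else 0 := by
        by_cases hl0 : (l : ℕ) = 0
        · rw [if_pos hl0, if_neg (by omega)]
        · rw [if_neg hl0, ext_of_lt _ (show (l : ℕ) - 1 < f.natDegree by omega), Pi.single_apply]
          simp only [Fin.ext_iff]
          split_ifs <;> first | rfl | omega
      rw [hlast, hprev]
      by_cases hj : (j : ℕ) + 1 < f.natDegree
      · rw [show AdjoinRoot.root f ^ ((j : ℕ) + 1) = b i ⟨(j : ℕ) + 1, hj⟩ from (hb ⟨_, hj⟩).symm,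
          Basis.repr_self, Finsupp.single_apply, if_neg (show (j : ℕ) + 1 ≠ f.natDegree by omega)]
        simp [Fin.ext_iff]
      · rw [show (j : ℕ) + 1 = f.natDegree by omega, if_pos rfl, if_neg (by omega)]
        simp [c]
    intro x
    have := congrArg (fun L : AdjoinRoot f →ₗ[K] (Fin f.natDegree → K) => L (J x)) key
    simp only [LinearMap.comp_apply, LinearEquiv.coe_coe, LinearMap.mulLeft_apply] at this
    simp only [LinearEquiv.trans_apply, hJ, this]
  choose Q c hQ using blk
  let ν := Fintype.equivFin ι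
  let G : V ≃ₗ[K] (∀ j : Fin (Fintype.card ι),
      Fin (p (ν.symm j) ^ k (ν.symm j)).natDegree → K) :=
    ((Module.AEval'.of T).trans ((g.trans (DirectSum.linearEquivFunOnFintype K[X] ι _)).restrictScalars K)).trans
      ((LinearEquiv.piCongrLeft' K _ ν).trans (LinearEquiv.piCongrRight fun j => Q (ν.symm j)))
  refine ⟨_, _, fun j => c (ν.symm j), G.symm, fun z => G.injective ?_⟩
  rw [LinearEquiv.apply_symm_apply]
  funext j
  obtain ⟨v, rfl⟩ := G.surjective z
  rw [LinearEquiv.symm_apply_apply, dsum_apply]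
  simp only [G, LinearEquiv.trans_apply, LinearEquiv.piCongrRight_apply,
    LinearEquiv.piCongrLeft'_apply, LinearEquiv.restrictScalars_apply]
  rw [← Module.AEval'.X_smul_of, map_smul, map_smul, Pi.smul_apply, hQ]

/-- Two one-dimensional blocks with different eigenvalues form one companion block. -/
theorem exists_merge {s t : ℕ} (hs : s = 1) (ht : t = 1) (c : Fin s → K) (d : Fin t → K)
    (h : c ⟨0, by omega⟩ ≠ d ⟨0, by omega⟩) :
    ∃ (q : Fin 2 → K) (P : (Fin 2 → K) ≃ₗ[K] (Fin s → K) × (Fin t → K)),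
      ∀ x, P (comp q x) = (comp c).prodMap (comp d) (P x) := by
  subst hs ht
  set a := c ⟨0, by omega⟩ with ha
  set b := d ⟨0, by omega⟩ with hb
  have hab : a - b ≠ 0 := sub_ne_zero.2 h
  let L : (Fin 2 → K) →ₗ[K] (Fin 1 → K) × (Fin 1 → K) :=
    LinearMap.prod (LinearMap.pi fun _ => LinearMap.proj 0 + a • LinearMap.proj 1)
      (LinearMap.pi fun _ => LinearMap.proj 0 + b • LinearMap.proj 1)
  have h1 : ∀ x k, (L x).1 k = x 0 + a * x 1 := fun x k => by simp [L]
  have h2 : ∀ x k, (L x).2 k = x 0 + b * x 1 := fun x k => by simp [L]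
  have hinj : Function.Injective L := by
    rw [← LinearMap.ker_eq_bot]
    refine (Submodule.eq_bot_iff _).2 fun x hx => ?_
    have e1 : x 0 + a * x 1 = 0 :=
      (h1 x 0).symm.trans (congrFun (congrArg Prod.fst (LinearMap.mem_ker.1 hx)) 0)
    have e2 : x 0 + b * x 1 = 0 :=
      (h2 x 0).symm.trans (congrFun (congrArg Prod.snd (LinearMap.mem_ker.1 hx)) 0)
    have e3 : x 1 = 0 :=
      (mul_eq_zero.1 (show (a - b) * x 1 = 0 by linear_combination e1 - e2)).resolve_left hab
    funext l
    fin_cases l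
    · show x 0 = 0
      linear_combination e1 - a * e3
    · exact e3
  let P := LinearEquiv.ofBijective L
    ⟨hinj, (LinearMap.injective_iff_surjective_of_finrank_eq_finrank (by simp)).1 hinj⟩
  refine ⟨![-(a * b), a + b], P, fun x => Prod.ext (funext fun k => ?_) (funext fun k => ?_)⟩
  · show (L (comp _ x)).1 k = comp c (L x).1 k
    have hk : k = 0 := Subsingleton.elim _ _
    subst hk
    simp [h1, comp_apply, ext, ha]
    ring
  · show (L (comp _ x)).2 k = comp d (L x).2 k
    have hk : k = 0 := Subsingleton.elim _ _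
    subst hk
    simp [h2, comp_apply, ext, hb]
    ring

/-- **Every non-scalar endomorphism of determinant one is a commutator.** -/
theorem isComm_of_not_scalar {T : Module.End K V} (hdet : LinearMap.det T = 1)
    (hT : ∀ a : K, T ≠ a • LinearMap.id) (hd : 3 ≤ finrank K V ∨ ∃ a : K, a ≠ 0 ∧ a * a ≠ 1) :
    IsComm T := by
  obtain ⟨m, s, c, E, hE⟩ := exists_dsum T
  have of_index : ∀ i₀, 2 ≤ s i₀ → (Odd (s i₀) → ∀ i, Even (s i) → s i = 0) → IsComm T := by
    intro i₀ h2 hpar
    obtain ⟨m, rfl⟩ : ∃ k, m = k + 1 := ⟨m - 1, by have := i₀.isLt; omega⟩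
    generalize hc : c i₀ = c₀
    have hsplit := fun z => splitAt_dsum s c i₀ z
    obtain ⟨e, he⟩ : ∃ e, s i₀ = e + 1 := ⟨s i₀ - 1, by omega⟩
    let C : (Fin (e + 1) → K) ≃ₗ[K] (Fin (s i₀) → K) :=
      LinearEquiv.funCongrLeft K K (finCongr he)
    refine isComm_of_block hdet (e := e) (by omega) (C.symm c₀)
      (fun j => s (i₀.succAbove j)) (fun j => c (i₀.succAbove j))
      ((C.prodCongr (LinearEquiv.refl K _)).trans ((splitAt s i₀).symm.trans E))
      (fun z => ?_) (fun hev i hi => hpar ?_ _ hi) hd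
    · simp only [LinearEquiv.trans_apply, hE]
      congr 1
      apply (splitAt (K := K) s i₀).injective
      rw [hsplit, LinearEquiv.apply_symm_apply, LinearEquiv.apply_symm_apply, hc]
      refine Prod.ext ?_ rfl
      show comp c₀ (C z.1) = C (comp (C.symm c₀) z.1)
      funext l
      show comp c₀ (fun j => z.1 (finCongr he j)) l = comp (C.symm c₀) z.1 (finCongr he l)
      simp only [comp_apply]
      have hx : ∀ k, ext k (fun j => z.1 (finCongr he j)) = ext k z.1 := fun k => by
        by_cases hk : k < e + 1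
        · rw [ext_of_lt _ (he ▸ hk), ext_of_lt _ hk]; rfl
        · simp [ext, hk, he]
      simp only [hx, C, LinearEquiv.funCongrLeft_symm, LinearEquiv.funCongrLeft_apply]
      simp [he, LinearMap.funLeft_apply]
    · rw [he]; exact Even.add_one hev
  by_cases hEv : ∃ i, 2 ≤ s i ∧ Even (s i)
  · obtain ⟨i, hi, hev⟩ := hEv
    exact of_index i hi fun h => absurd hev (Nat.not_even_iff_odd.2 h)
  push Not at hEv
  have hev0 : ∀ i, Even (s i) → s i = 0 := fun i hi => by
    by_contra h
    exact hEv i (by obtain ⟨k, hk⟩ := hi; omega) hi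
  by_cases hbig : ∃ i, 2 ≤ s i
  · obtain ⟨i, hi⟩ := hbig
    exact of_index i hi fun _ => hev0
  push Not at hbig
  -- only one-dimensional blocks: two different eigenvalues exist
  obtain ⟨i, hi1, j, hj1, hij⟩ : ∃ (i : Fin m) (hi : s i = 1) (j : Fin m) (hj : s j = 1),
      c i ⟨0, by omega⟩ ≠ c j ⟨0, by omega⟩ := by
    by_contra hno
    push Not at hno
    obtain ⟨a, ha⟩ : ∃ a : K, ∀ i, ∀ h : s i = 1, c i ⟨0, by omega⟩ = a := by
      by_cases hex : ∃ i, s i = 1
      · obtain ⟨i, hi⟩ := hex
        exact ⟨c i ⟨0, by omega⟩, fun j hj => hno j hj i hi⟩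
      · exact ⟨0, fun i h => absurd ⟨i, h⟩ hex⟩
    refine hT a (LinearMap.ext fun v => ?_)
    obtain ⟨z, rfl⟩ := E.surjective v
    rw [hE, LinearMap.smul_apply, LinearMap.id_apply, ← map_smul]
    congr 1
    funext i l
    have hl := l.isLt
    have hs : s i = 1 := by have := hbig i; omega
    have hl0 : l = ⟨0, by omega⟩ := Fin.ext (show (l : ℕ) = 0 by omega)
    rw [dsum_apply, comp_apply, if_pos (by omega), zero_add,
      ext_of_lt _ (show s i - 1 < s i by omega), Pi.smul_apply, Pi.smul_apply, smul_eq_mul, hl0]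
    rw [ha i hs]
    congr 2
    exact Fin.ext (show s i - 1 = 0 by omega)
  obtain ⟨m, rfl⟩ : ∃ k, m = k + 1 := ⟨m - 1, by have := i.isLt; omega⟩
  have hji : j ≠ i := by rintro rfl; exact hij rfl
  obtain ⟨j', rfl⟩ := Fin.exists_succAbove_eq hji
  obtain ⟨m, rfl⟩ : ∃ k, m = k + 1 := ⟨m - 1, by have := j'.isLt; omega⟩
  obtain ⟨q, P, hP⟩ := exists_merge hi1 hj1 (c i) (c (i.succAbove j')) hij
  set s' := fun l => s (i.succAbove l)
  let F : ((Fin 2 → K) × (∀ l, Fin (s' (j'.succAbove l)) → K)) ≃ₗ[K] V :=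
    (P.prodCongr (LinearEquiv.refl K _)).trans <|
      (LinearEquiv.prodAssoc K _ _ _).trans <|
        ((LinearEquiv.refl K _).prodCongr (splitAt s' j').symm).trans <|
          (splitAt s i).symm.trans E
  refine isComm_of_block hdet (e := 1) le_rfl q (fun l => s' (j'.succAbove l))
    (fun l => c (i.succAbove (j'.succAbove l))) F (fun z => ?_) (fun h => absurd h (by decide)) hd
  simp only [F, LinearEquiv.trans_apply, hE]
  congr 1
  apply (splitAt (K := K) s i).injective
  rw [splitAt_dsum, LinearEquiv.apply_symm_apply, LinearEquiv.apply_symm_apply]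
  refine Prod.ext (congrArg Prod.fst (hP z.1)).symm ?_
  apply (splitAt (K := K) s' j').injective
  show splitAt s' j' (dsum s' (fun l => c (i.succAbove l)) ((splitAt s' j').symm ((P z.1).2, z.2))) =
    splitAt s' j' ((splitAt s' j').symm ((P (comp q z.1)).2, _))
  rw [splitAt_dsum, LinearEquiv.apply_symm_apply, LinearEquiv.apply_symm_apply]
  exact Prod.ext (congrArg Prod.snd (hP z.1)).symm rfl

end Cfsg.Agent.OreSL
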