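import Cfsg.Agent.OreSL.Core

/-!
# Scalar commutators over a finite field
-/

namespace Cfsg.Agent.OreSL

open Polynomial Module

variable {K : Type*} [Field K]

theorem IsComm.one {V : Type*} [AddCommGroup V] [Module K V] : IsComm (1 : Module.End K V) :=
  ⟨1, 1, map_one _, map_one _, by simp⟩

theorem IsComm.prod {V V' : Type*} [AddCommGroup V] [Module K V] [AddCommGroup V'] [Module K V']
    [FiniteDimensional K V] [FiniteDimensional K V'] {A : Module.End K V} {B : Module.End K V'} :
    IsComm A → IsComm B → IsComm (A.prodMap B) := by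
  rintro ⟨a, c, ha, hc, h⟩ ⟨a', c', ha', hc', h'⟩
  refine ⟨a.prodMap a', c.prodMap c', ?_, ?_, ?_⟩
  · rw [LinearMap.det_prodMap, ha, ha', one_mul]
  · rw [LinearMap.det_prodMap, hc, hc', one_mul]
  · rw [LinearMap.prodMap_mul, LinearMap.prodMap_mul, LinearMap.prodMap_mul, h, h']

/-- Every monic polynomial annihilates some invariant-free endomorphism. -/
theorem exists_model {f : K[X]} (hf : f.Monic) {d : ℕ} (hd : f.natDegree = d) :
    ∃ (A : Module.End K (Fin d → K)) (ν : Dual K (Fin d → K)), InvFree A ν ∧ aeval A f = 0 := by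
  have h : InvFree (comp (0 : Fin d → K)) (ext (d - 1)) := by
    refine InvFree.of_submodule fun Z h1 h2 => (Submodule.eq_bot_iff _).2 fun z hz => ?_
    have key : ∀ k, k < d → ∀ y ∈ Z, ext (d - 1 - k) y = (0 : K) := by
      intro k
      induction k with
      | zero => intro _ y hy; exact h1 y hy
      | succ k ih =>
        intro hk y hy
        have := ih (by omega) _ (h2 y hy)
        rw [ext_of_lt _ (show d - 1 - k < d by omega), comp_apply,
          if_neg (show d - 1 - k ≠ 0 by omega)] at this
        simpa [show d - 1 - (k + 1) = d - 1 - k - 1 by omega] using this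
    funext j
    show z j = 0
    have := key (d - 1 - j) (by have := j.isLt; omega) z hz
    rwa [show d - 1 - (d - 1 - (j : ℕ)) = j by have := j.isLt; omega, ext_fin] at this
  obtain ⟨x, hx, hx'⟩ := h.exists_completion hf (by rw [hd]; simp)
  exact ⟨_, _, hx', hx⟩

theorem InvFree.smul {V : Type*} [AddCommGroup V] [Module K V] {A : Module.End K V}
    {ν : Dual K V} (h : InvFree A ν) {a : K} (ha : a ≠ 0) : InvFree (a • A) ν := fun z hz =>
  h z fun i => by
    have := hz i
    rw [_root_.smul_pow, LinearMap.smul_apply, map_smul, smul_eq_mul] at this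
    exact (mul_eq_zero.1 this).resolve_left (pow_ne_zero i ha)

variable [Fintype K]

/-- Norms from a quadratic algebra are onto. -/
theorem exists_norm (h2 : (2 : K) ≠ 0) {μ : K} (hμ : μ ≠ 0) (r : K) :
    ∃ u v : K, u * u - μ * (v * v) = r := by
  have hodd : Fintype.card K % 2 = 1 :=
    FiniteField.odd_card_of_char_ne_two fun h => h2 (by
      have := ringChar.Nat.cast_ringChar (R := K)
      rw [h] at this
      exact_mod_cast this)
  obtain ⟨u, v, h⟩ := FiniteField.exists_root_sum_quadratic (f := X ^ 2 - C r) (g := C (-μ) * X ^ 2)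
    (degree_X_pow_sub_C two_pos r) (degree_C_mul_X_pow 2 (neg_ne_zero.2 hμ)) hodd
  refine ⟨u, v, ?_⟩
  simp at h
  linear_combination h

/-- The scalar of order exactly `m` in dimension `m`. -/
theorem isComm_scalar_order {μ : K} {m : ℕ} (hm : orderOf μ = m) (hm2 : 2 ≤ m) :
    IsComm (μ • LinearMap.id : Module.End K (Fin m → K)) := by
  classical
  have hμm : μ ^ m = 1 := hm ▸ pow_orderOf_eq_one μ
  have hμ0 : μ ≠ 0 := fun h => by simp [h, zero_pow (by omega : m ≠ 0)] at hμm
  have hmK : (m : K) ≠ 0 := by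
    have hdvd : m ∣ Fintype.card K - 1 := hm ▸ orderOf_dvd_of_pow_eq_one
      (FiniteField.pow_card_sub_one_eq_one μ hμ0)
    obtain ⟨k, hk⟩ := hdvd
    intro h
    have h1 : ((Fintype.card K - 1 : ℕ) : K) = 0 := by rw [hk, Nat.cast_mul, h, zero_mul]
    rw [Nat.cast_sub Fintype.card_pos, FiniteField.cast_card_eq_zero, Nat.cast_one, zero_sub,
      neg_eq_zero] at h1
    exact one_ne_zero h1
  set a : K := (-1) ^ m with ha
  have ha0 : -a ≠ 0 := neg_ne_zero.2 (pow_ne_zero _ (neg_ne_zero.2 one_ne_zero))
  let f : K[X] := X ^ m - C (-a)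
  have hfm : f.Monic := monic_X_pow_sub_C _ (by omega)
  have hfd : f.natDegree = m := natDegree_X_pow_sub_C
  have hsep : f.Separable := separable_X_pow_sub_C _ hmK ha0
  -- a small factor with surjective norm
  obtain ⟨k, p, A₁, ν₁, hkm, hpm, hpd, hpf, hA₁, hν₁, hnorm⟩ :
      ∃ (k : ℕ) (p : K[X]) (A₁ : Module.End K (Fin k → K)) (ν₁ : Dual K (Fin k → K)), k ≤ m ∧
        p.Monic ∧ p.natDegree = k ∧ p ∣ f ∧ aeval A₁ p = 0 ∧ InvFree A₁ ν₁ ∧
        ∀ r : K, ∃ z : Module.End K (Fin k → K), LinearMap.det z = r ∧ Commute z A₁ := by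
    rcases Nat.even_or_odd m with hev | hodd
    · have h2 : (2 : K) ≠ 0 := fun h => hmK (by
        obtain ⟨j, rfl⟩ := hev
        push_cast
        linear_combination (j : K) * h)
      obtain ⟨j, rfl⟩ := hev
      have hμj : μ ^ j = -1 := by
        refine ((mul_self_eq_one_iff.1 (by rw [← pow_add, hμm])).resolve_left fun h => ?_)
        have := Nat.le_of_dvd (by omega) (orderOf_dvd_of_pow_eq_one h)
        omega
      let A₁ : Module.End K (Fin 2 → K) := comp ![μ, 0]
      have hA0 : ∀ x, A₁ x 0 = μ * x 1 := fun x => by simp [A₁, comp_apply, ext]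
      have hA1 : ∀ x, A₁ x 1 = x 0 := fun x => by simp [A₁, comp_apply, ext]
      refine ⟨2, X ^ 2 - C μ, A₁, LinearMap.proj 1, by omega, monic_X_pow_sub_C _ two_ne_zero,
        natDegree_X_pow_sub_C, ?_, ?_, ?_, fun r => ?_⟩
      · have h := sub_dvd_pow_sub_pow ((X : K[X]) ^ 2) (C μ) j
        rw [← pow_mul, ← C_pow, hμj] at h
        simpa [f, ha, two_mul, ← mul_pow, pow_add] using h
      · refine LinearMap.ext fun x => funext fun i => ?_
        rw [map_sub, map_pow, aeval_X, aeval_C, LinearMap.sub_apply, pow_two,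
          Module.End.mul_apply, Module.algebraMap_end_apply]
        fin_cases i <;> simp [hA0, hA1]
      · intro z hz
        have h0 : z 1 = 0 := by simpa using hz 0
        have h1 : z 0 = 0 := by simpa [hA1] using hz 1
        funext i
        fin_cases i <;> assumption
      · obtain ⟨u, v, huv⟩ := exists_norm h2 hμ0 r
        refine ⟨u • 1 + v • A₁, ?_, ((Commute.one_left _).smul_left u).add_left
          ((Commute.refl A₁).smul_left v)⟩
        rw [← LinearMap.det_toMatrix', Matrix.det_fin_two]
        simp [LinearMap.toMatrix'_apply, hA0, hA1]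
        linear_combination huv
    · refine ⟨1, X - 1, 1, LinearMap.proj 0, by omega, monic_X_sub_C 1, natDegree_X_sub_C 1, ?_,
        by simp, fun z hz => funext fun i => ?_, fun r => ?_⟩
      · have h := sub_one_dvd_pow_sub_one (X : K[X]) m
        simpa [f, ha, hodd.neg_one_pow] using h
      · rw [Subsingleton.elim i 0]
        simpa using hz 0
      · exact ⟨r • 1, by simp, (Commute.one_left _).smul_left r⟩
  obtain ⟨g, hg⟩ := hpf
  have hgm : g.Monic := hpm.of_mul_monic_left (hg ▸ hfm)
  have hgd : g.natDegree = m - k := by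
    have := congrArg natDegree hg
    rw [hfd, hpm.natDegree_mul hgm, hpd] at this
    omega
  obtain ⟨A₂, ν₂, hν₂, hA₂⟩ := exists_model hgm hgd
  let V := (Fin k → K) × (Fin (m - k) → K)
  let b : Module.End K V := A₁.prodMap A₂
  have hbfree := hν₁.prod hν₂ hA₁ hA₂ (Polynomial.Separable.isCoprime (hg ▸ hsep))
  have hbf : aeval b f = 0 := by
    rw [hg, aeval_prodMap, map_mul, map_mul, hA₁, hA₂, zero_mul, mul_zero]
    exact LinearMap.prodMap_zero
  have hVd : f.natDegree = finrank K V := by
    rw [hfd, Module.finrank_prod, Module.finrank_fin_fun, Module.finrank_fin_fun]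
    omega
  have hdb : LinearMap.det b = 1 := by
    rw [hbfree.det_eq hfm hVd hbf, ← hVd, hfd]
    simp only [f, coeff_sub, coeff_X_pow, show 0 ≠ m by omega, if_false, coeff_C_zero, zero_sub,
      neg_neg, ha, ← mul_pow, neg_mul_neg, mul_one, one_pow]
  have hbμ : aeval (μ⁻¹ • b) f = 0 := by
    simp only [f, map_sub, map_pow, aeval_X, aeval_C] at hbf ⊢
    rw [_root_.smul_pow, inv_pow, hμm, inv_one, one_smul]
    exact hbf
  obtain ⟨P, hP⟩ := hbfree.exists_conj (hbfree.smul (inv_ne_zero hμ0)) hfm hVd hbf hbμ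
  have hPd : LinearMap.det (P : Module.End K V) ≠ 0 := (LinearEquiv.isUnit_det' P).ne_zero
  obtain ⟨z, hz, hzc⟩ := hnorm (LinearMap.det (P : Module.End K V))⁻¹
  let E : V ≃ₗ[K] (Fin m → K) := LinearEquiv.ofFinrankEq _ _ (by
    rw [← hVd, hfd, Module.finrank_fin_fun])
  refine IsComm.of_equiv E (T := μ • LinearMap.id) (fun v => by simp) ⟨b,
    (P : Module.End K V) * z.prodMap LinearMap.id, hdb, ?_, ?_⟩
  · rw [map_mul, LinearMap.det_prodMap, hz, LinearMap.det_id, mul_one, mul_inv_cancel₀ hPd]
  · have h1 : μ • ((P : Module.End K V) * b) = b * P := LinearMap.ext fun x => by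
      simp only [b, LinearMap.smul_apply, Module.End.mul_apply, LinearEquiv.coe_coe, hP,
        smul_smul, mul_inv_cancel₀ hμ0, one_smul]
    have h2 : z.prodMap LinearMap.id * b = b * z.prodMap (LinearMap.id) := LinearMap.ext fun x =>
      Prod.ext (congrArg (fun L : Module.End K (Fin k → K) => L x.1) hzc.eq) rfl
    rw [show (μ • LinearMap.id : Module.End K V) * ((P : Module.End K V) * z.prodMap LinearMap.id) =
      μ • ((P : Module.End K V) * z.prodMap LinearMap.id) from LinearMap.ext fun x => rfl,
      smul_mul_assoc, mul_assoc, h2, ← mul_assoc, ← smul_mul_assoc, h1, mul_assoc]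

/-- Every scalar of determinant one is a commutator. -/
theorem isComm_scalar {μ : K} {n : ℕ} (hμ : μ ^ n = 1) :
    IsComm (μ • LinearMap.id : Module.End K (Fin n → K)) := by
  rcases Nat.lt_or_ge (orderOf μ) 2 with hlt | hm
  · rcases Nat.eq_zero_or_pos n with rfl | hn
    · have : (μ • LinearMap.id : Module.End K (Fin 0 → K)) = 1 := Subsingleton.elim _ _
      rw [this]; exact IsComm.one
    · have h1 : μ = 1 := by
        rcases Nat.lt_or_ge (orderOf μ) 1 with h | h
        · exact absurd (orderOf_pos_iff.2 (isOfFinOrder_iff_pow_eq_one.2 ⟨n, hn, hμ⟩)) (by omega)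
        · exact orderOf_eq_one_iff.1 (by omega)
      rw [h1, one_smul]
      exact IsComm.one
  · obtain ⟨t, rfl⟩ := orderOf_dvd_of_pow_eq_one hμ
    induction t with
    | zero =>
      have : (μ • LinearMap.id : Module.End K (Fin (orderOf μ * 0) → K)) = 1 := by
        refine LinearMap.ext fun x => funext fun i => ?_
        exact absurd i.isLt (by simp)
      rw [this]; exact IsComm.one
    | succ t ih =>
      have h := (isComm_scalar_order rfl hm).prod (ih (by rw [pow_mul, pow_orderOf_eq_one, one_pow]))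
      let E : ((Fin (orderOf μ) → K) × (Fin (orderOf μ * t) → K)) ≃ₗ[K]
          (Fin (orderOf μ * (t + 1)) → K) :=
        LinearEquiv.ofFinrankEq _ _ (by simp [Module.finrank_prod]; ring)
      refine h.of_equiv E fun v => ?_
      rw [show ((μ • LinearMap.id).prodMap (μ • LinearMap.id)) v = μ • v from rfl, map_smul]
      rfl

end Cfsg.Agent.OreSL
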