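import Mathlib

/-!
# Completing a partial endomorphism to a prescribed characteristic polynomial

An endomorphism `M` and a functional `μ` are *invariant-free* if no nonzero vector has its whole
orbit in `ker μ`.  Changing `M` outside `ker μ` then reaches every monic polynomial of the right
degree, and two invariant-free endomorphisms killed by the same such polynomial are similar.
-/

namespace Cfsg.Agent.OreSL

open Polynomial Module

variable {K : Type*} [Field K] {V : Type*} [AddCommGroup V] [Module K V]

/-- No nonzero vector has its whole orbit inside `ker μ`. -/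
def InvFree (M : Module.End K V) (μ : Dual K V) : Prop :=
  ∀ z : V, (∀ i : ℕ, μ ((M ^ i) z) = 0) → z = 0

theorem InvFree.of_submodule {M : Module.End K V} {μ : Dual K V}
    (h : ∀ Z : Submodule K V, (∀ z ∈ Z, μ z = 0) → (∀ z ∈ Z, M z ∈ Z) → Z = ⊥) :
    InvFree M μ := by
  intro z hz
  let Z : Submodule K V := ⨅ i : ℕ, LinearMap.ker (μ ∘ₗ (M ^ i : Module.End K V))
  have hmem : ∀ x, x ∈ Z ↔ ∀ i : ℕ, μ ((M ^ i) x) = 0 := fun x => by simp [Z]
  have h1 : Z = ⊥ := h Z (fun x hx => by simpa using (hmem x).1 hx 0) fun x hx => (hmem _).2 fun i => by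
    have h2 := (hmem x).1 hx (i + 1)
    rwa [pow_succ, Module.End.mul_apply] at h2
  have h3 : z ∈ Z := (hmem z).2 hz
  rw [h1] at h3
  exact (Submodule.mem_bot K).1 h3

theorem InvFree.submodule_eq_bot {M : Module.End K V} {μ : Dual K V} (h : InvFree M μ)
    (Z : Submodule K V) (h1 : ∀ z ∈ Z, μ z = 0) (h2 : ∀ z ∈ Z, M z ∈ Z) : Z = ⊥ := by
  refine (Submodule.eq_bot_iff _).2 fun z hz => h z fun i => h1 _ ?_
  induction i with
  | zero => simpa using hz
  | succ i ih => rw [pow_succ', Module.End.mul_apply]; exact h2 _ ih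

/-- Invariant-freeness only depends on the restriction to `ker μ`. -/
theorem InvFree.congr {M N : Module.End K V} {μ : Dual K V} (h : InvFree M μ)
    (hMN : ∀ z, μ z = 0 → N z = M z) : InvFree N μ :=
  InvFree.of_submodule fun Z h1 h2 => h.submodule_eq_bot Z h1 fun z hz => by
    rw [← hMN z (h1 z hz)]; exact h2 z hz

/-- The orbit of `μ` is already faithful below the degree of an annihilating polynomial. -/
theorem InvFree.eq_zero_of_lt {M : Module.End K V} {μ : Dual K V} (h : InvFree M μ) {f : K[X]}
    (hf : f.Monic) (hfM : aeval M f = 0) {n : ℕ} (hn : f.natDegree = n) {z : V}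
    (hz : ∀ i < n, μ ((M ^ i) z) = 0) : z = 0 := by
  refine h z fun i => ?_
  induction i using Nat.strong_induction_on with
  | h i ih =>
    rcases lt_or_ge i n with hi | hi
    · exact hz i hi
    · obtain ⟨j, rfl⟩ := Nat.exists_eq_add_of_le hi
      have e : μ ((M ^ j) (aeval M f z)) = 0 := by rw [hfM]; simp
      rw [aeval_eq_sum_range, hn, LinearMap.sum_apply, map_sum, map_sum, Finset.sum_range_succ,
        Finset.sum_eq_zero] at e
      · rw [zero_add, LinearMap.smul_apply, map_smul, map_smul, ← hn, Monic.coeff_natDegree hf,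
          one_smul, hn, ← Module.End.mul_apply, ← pow_add, add_comm] at e
        exact e
      · intro k hk
        rw [LinearMap.smul_apply, map_smul, map_smul, ← Module.End.mul_apply, ← pow_add,
          ih (j + k) (by have := Finset.mem_range.1 hk; omega), smul_zero]

variable [FiniteDimensional K V]

/-- The characteristic polynomial of an invariant-free endomorphism is its only monic annihilator
of full degree. -/
theorem InvFree.charpoly_eq {M : Module.End K V} {μ : Dual K V} (h : InvFree M μ) {f : K[X]}
    (hf : f.Monic) (hd : f.natDegree = finrank K V) (hfM : aeval M f = 0) :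
    LinearMap.charpoly M = f := by
  set n := finrank K V with hn
  by_contra hne
  set g := LinearMap.charpoly M - f with hg
  have hg0 : g ≠ 0 := sub_ne_zero.2 hne
  have hgdeg : g.natDegree < n ∨ n = 0 := by
    rcases Nat.eq_zero_or_pos n with h0 | h0
    · exact Or.inr h0
    · left
      have hc : (LinearMap.charpoly M).natDegree = n := LinearMap.charpoly_natDegree M
      have hle : g.natDegree ≤ n := (natDegree_sub_le _ _).trans (by simp [hc, hd])
      refine lt_of_le_of_ne hle fun heq => hg0 ?_
      have hc' : g.coeff n = 0 := by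
        rw [hg, coeff_sub]
        have h1 := (LinearMap.charpoly_monic M).coeff_natDegree
        have h2 := hf.coeff_natDegree
        rw [hc] at h1
        rw [hd] at h2
        rw [h1, h2, sub_self]
      rw [← heq] at hc'
      exact leadingCoeff_eq_zero.1 hc'
  rcases hgdeg with hlt | h0
  · let P : V →ₗ[K] (Fin n → K) := LinearMap.pi fun i => μ ∘ₗ (M ^ (i : ℕ) : Module.End K V)
    have hP : Function.Injective P := by
      rw [← LinearMap.ker_eq_bot]
      refine (Submodule.eq_bot_iff _).2 fun z hz => h.eq_zero_of_lt hf hfM hd fun i hi => ?_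
      exact congrFun (LinearMap.mem_ker.1 hz) ⟨i, hi⟩
    have hsurj : Function.Surjective P :=
      (LinearMap.injective_iff_surjective_of_finrank_eq_finrank (by simp [n])).1 hP
    obtain ⟨k, hk, hkn⟩ : ∃ k, g.coeff k ≠ 0 ∧ k < n :=
      ⟨g.natDegree, mt leadingCoeff_eq_zero.1 hg0, hlt⟩
    obtain ⟨z, hz⟩ := hsurj (Pi.single ⟨k, hkn⟩ 1)
    have e : μ (aeval M g z) = 0 := by
      rw [hg, map_sub, LinearMap.aeval_self_charpoly, hfM]; simp
    rw [aeval_eq_sum_range' (n := n) hlt, LinearMap.sum_apply, map_sum,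
      Finset.sum_eq_single k] at e
    · rw [LinearMap.smul_apply, map_smul, show μ ((M ^ k) z) = 1 from
        (congrFun hz ⟨k, hkn⟩).trans (Pi.single_eq_same _ _), smul_eq_mul, mul_one] at e
      exact hk e
    · intro b hb hbk
      rw [LinearMap.smul_apply, map_smul, show μ ((M ^ b) z) = 0 from
        (congrFun hz ⟨b, Finset.mem_range.1 hb⟩).trans
          (Pi.single_eq_of_ne (fun h => hbk (congrArg Fin.val h)) _), smul_zero]
    · exact fun h => absurd (Finset.mem_range.2 hkn) h
  · refine hne (((LinearMap.charpoly_monic M).natDegree_eq_zero.1 ?_).trans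
      (hf.natDegree_eq_zero.1 ?_).symm)
    · rw [LinearMap.charpoly_natDegree]; exact h0
    · omega

/-- **Similarity.** -/
theorem InvFree.exists_conj {M N : Module.End K V} {μ ν : Dual K V} (hM : InvFree M μ)
    (hN : InvFree N ν) {f : K[X]} (hf : f.Monic) (hd : f.natDegree = finrank K V)
    (hfM : aeval M f = 0) (hfN : aeval N f = 0) :
    ∃ P : V ≃ₗ[K] V, ∀ x, P (M x) = N (P x) := by
  set n := finrank K V with hn
  have key : ∀ {T : Module.End K V} {ρ : Dual K V}, InvFree T ρ → aeval T f = 0 →
      ∃ E : V ≃ₗ[K] (Fin n → K), ∀ x i, E x i = ρ ((T ^ (i : ℕ)) x) := by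
    intro T ρ hT hfT
    let P : V →ₗ[K] (Fin n → K) := LinearMap.pi fun i => ρ ∘ₗ (T ^ (i : ℕ) : Module.End K V)
    have hP : Function.Injective P := by
      rw [← LinearMap.ker_eq_bot]
      refine (Submodule.eq_bot_iff _).2 fun z hz => hT.eq_zero_of_lt hf hfT hd fun i hi => ?_
      exact congrFun (LinearMap.mem_ker.1 hz) ⟨i, hi⟩
    exact ⟨LinearEquiv.ofBijective P ⟨hP,
      (LinearMap.injective_iff_surjective_of_finrank_eq_finrank (by simp [n])).1 hP⟩,
      fun x i => rfl⟩
  obtain ⟨E₁, h₁⟩ := key hM hfM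
  obtain ⟨E₂, h₂⟩ := key hN hfN
  refine ⟨E₁.trans E₂.symm, fun x => E₂.injective ?_⟩
  set y := E₂.symm (E₁ x)
  have hy : ∀ i : ℕ, i < n → ν ((N ^ i) y) = μ ((M ^ i) x) := fun i hi => by
    have := h₂ y ⟨i, hi⟩
    rw [LinearEquiv.apply_symm_apply, h₁] at this
    exact this.symm
  funext i
  simp only [LinearEquiv.trans_apply, LinearEquiv.apply_symm_apply]
  rw [h₁, h₂, ← Module.End.mul_apply, ← Module.End.mul_apply, ← pow_succ]
  by_cases hi : (i : ℕ) + 1 < n
  · rw [← pow_succ]
    exact (hy _ hi).symm
  · have hi' : (i : ℕ) + 1 = f.natDegree := by have := i.isLt; omega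
    have sol : ∀ {T : Module.End K V} (ρ : Dual K V) (z : V), aeval T f = 0 →
        ρ ((T ^ ((i : ℕ) + 1)) z) = -∑ k ∈ Finset.range n, f.coeff k * ρ ((T ^ k) z) := by
      intro T ρ z hT
      have e : ρ (aeval T f z) = 0 := by rw [hT]; simp
      rw [aeval_eq_sum_range, LinearMap.sum_apply, map_sum, Finset.sum_range_succ] at e
      rw [hi', eq_neg_iff_add_eq_zero, ← e, add_comm, hd]
      simp [← hd, hf.coeff_natDegree]
    rw [← pow_succ, sol μ x hfM, sol ν y hfN]
    exact congrArg Neg.neg (Finset.sum_congr rfl fun k hk => by rw [hy k (Finset.mem_range.1 hk)])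

omit [FiniteDimensional K V] in
/-- Horner's scheme, dualised. -/
theorem horner (M : Module.End K V) (μ : Dual K V) (f : K[X]) (n : ℕ) (η : ℕ → Dual K V)
    (h0 : η 0 = μ) (hs : ∀ j < n, η (j + 1) = η j ∘ₗ M + f.coeff (n - 1 - j) • μ) (z : V) :
    ∀ j ≤ n, η j z = μ ((M ^ j) z) + ∑ i ∈ Finset.range j, f.coeff (n - j + i) * μ ((M ^ i) z) := by
  intro j
  induction j generalizing z with
  | zero => intro _; simp [h0]
  | succ j ih =>
    intro hj
    rw [hs j (by omega), LinearMap.add_apply, LinearMap.comp_apply, ih (M z) (by omega),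
      ← Module.End.mul_apply, ← pow_succ, Finset.sum_range_succ', LinearMap.smul_apply]
    simp only [← Module.End.mul_apply, ← pow_succ, pow_zero, Module.End.one_apply, add_zero,
      smul_eq_mul]
    rw [show n - (j + 1) = n - 1 - j by omega]
    have : ∀ i, n - 1 - j + (i + 1) = n - j + i := fun i => by omega
    simp only [this]
    ring

/-- **Completion.** -/
theorem InvFree.exists_completion {M : Module.End K V} {μ : Dual K V} (h : InvFree M μ)
    {f : K[X]} (hf : f.Monic) (hd : f.natDegree = finrank K V) :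
    ∃ d : V, aeval (M + μ.smulRight d) f = 0 ∧ InvFree (M + μ.smulRight d) μ := by
  set n := finrank K V with hn
  set c := LinearMap.charpoly M
  let η : ℕ → Dual K V := fun j =>
    Nat.rec μ (fun j e => e ∘ₗ M + c.coeff (n - 1 - j) • μ) j
  have hη0 : η 0 = μ := rfl
  have hηs : ∀ j, η (j + 1) = η j ∘ₗ M + c.coeff (n - 1 - j) • μ := fun _ => rfl
  have hM := horner M μ c n η hη0 (fun j _ => hηs j)
  have hcd : c.natDegree = n := LinearMap.charpoly_natDegree M
  let E : V →ₗ[K] (Fin n → K) := LinearMap.pi fun j => η j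
  have hE : Function.Injective E := by
    rw [← LinearMap.ker_eq_bot]
    refine (Submodule.eq_bot_iff _).2 fun z hz => h.eq_zero_of_lt (LinearMap.charpoly_monic M)
      (LinearMap.aeval_self_charpoly M) hcd fun i hi => ?_
    induction i using Nat.strong_induction_on with
    | h i ih =>
      have e : η i z = 0 := congrFun (LinearMap.mem_ker.1 hz) ⟨i, hi⟩
      rw [hM z i hi.le, Finset.sum_eq_zero, add_zero] at e
      · exact e
      · intro k hk
        have := Finset.mem_range.1 hk
        rw [ih k this (by omega), mul_zero]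
  obtain ⟨d, hd'⟩ := (LinearMap.injective_iff_surjective_of_finrank_eq_finrank (by simp [n])).1 hE
    fun j => c.coeff (n - 1 - j) - f.coeff (n - 1 - j)
  set T := M + μ.smulRight d with hT
  have hT' : InvFree T μ := h.congr fun z hz => by simp [hT, hz]
  refine ⟨d, ?_, hT'⟩
  have hTη := horner T μ f n η hη0 fun j hj => LinearMap.ext fun z => by
    have e : η j d = c.coeff (n - 1 - j) - f.coeff (n - 1 - j) := congrFun hd' ⟨j, hj⟩
    rw [hηs]
    simp only [hT, LinearMap.add_apply, LinearMap.comp_apply, LinearMap.smulRight_apply, map_add,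
      map_smul, e, LinearMap.smul_apply, smul_eq_mul]
    ring
  have key : ∀ (g : K[X]) (A : Module.End K V), g.Monic → g.natDegree = n → ∀ z,
      μ (aeval A g z) = μ ((A ^ n) z) + ∑ i ∈ Finset.range n, g.coeff i * μ ((A ^ i) z) := by
    intro g A hg hgn z
    rw [aeval_eq_sum_range, LinearMap.sum_apply, map_sum, hgn, Finset.sum_range_succ, add_comm]
    simp [← hgn, hg.coeff_natDegree]
  have hzero : ∀ z, μ (aeval T f z) = 0 := fun z => by
    rw [key f T hf hd]
    have e1 := hTη z n le_rfl
    have e2 := hM z n le_rfl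
    simp only [Nat.sub_self, zero_add] at e1 e2
    rw [← e1, e2, ← key c M (LinearMap.charpoly_monic M) hcd z, LinearMap.aeval_self_charpoly]
    simp
  refine LinearMap.ext fun z => hT' _ fun i => ?_
  have hcomm : (T ^ i) (aeval T f z) = aeval T f ((T ^ i) z) := by
    rw [← Module.End.mul_apply, ← Module.End.mul_apply]
    congr 1
    rw [show (T ^ i : Module.End K V) = aeval T (X ^ i : K[X]) by simp, ← map_mul, ← map_mul,
      mul_comm]
  rw [hcomm]
  exact hzero _

/-- Determinant through the constant coefficient. -/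
theorem InvFree.det_eq {M : Module.End K V} {μ : Dual K V} (h : InvFree M μ) {f : K[X]}
    (hf : f.Monic) (hd : f.natDegree = finrank K V) (hfM : aeval M f = 0) :
    LinearMap.det M = (-1) ^ finrank K V * f.coeff 0 := by
  rw [LinearMap.det_eq_sign_charpoly_coeff, h.charpoly_eq hf hd hfM]

end Cfsg.Agent.OreSL
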